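import Mathlib.RingTheory.PowerSeries.Basic
import Mathlib.RingTheory.Valuation.Basic
import Mathlib.RingTheory.Noetherian.Basic
import Mathlib.RingTheory.Ideal.Maps
import Mathlib.Data.ENat.Basic
import Mathlib.Data.Int.LeastGreatest
import Mathlib.Tactic.LinearCombination
import Mathlib.RingTheory.PowerSeries.Trunc
import Mathlib.RingTheory.Finiteness.Defs

/-! # Gauss valuations on a node algebra `R[[x,y]]/(xy - r)` -/

set_option autoImplicit false
universe u

open PowerSeries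

noncomputable section

namespace Groth.Agent.NodeVal3

/-- Axiomatic node algebra: every element is uniquely `p(x) + y q(y)`. -/
structure NodeData (R A : Type u) [CommRing R] [CommRing A] [Algebra R A] (r : R) where
  ox : PowerSeries R →ₐ[R] A
  oy : PowerSeries R →ₐ[R] A
  mul_xy : ox X * oy X = algebraMap R A r
  ex : ∀ f, ∃ p q, f = ox p + oy (X * q)
  uniq : ∀ p q, ox p + oy (X * q) = 0 → p = 0 ∧ q = 0
  unit : ∀ p q, IsUnit (constantCoeff p) → IsUnit (ox p + oy (X * q))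

namespace NodeData

variable {R A : Type u} [CommRing R] [CommRing A] [Algebra R A] {r : R} (D : NodeData R A r)

theorem ox_C (a : R) : D.ox (C a) = algebraMap R A a := by
  rw [← algebraMap_eq]; exact D.ox.commutes a

theorem oy_C (a : R) : D.oy (C a) = algebraMap R A a := by
  rw [← algebraMap_eq]; exact D.oy.commutes a

/-- Exchange the branches. -/
def swap : NodeData R A r where
  ox := D.oy
  oy := D.ox
  mul_xy := (mul_comm _ _).trans D.mul_xy
  ex f := by
    obtain ⟨p, q, rfl⟩ := D.ex f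
    refine ⟨C (constantCoeff p) + X * q, PowerSeries.mk fun i => coeff (i + 1) p, ?_⟩
    conv_lhs => rw [eq_X_mul_shift_add_const p, map_add, D.ox_C, ← D.oy_C]
    rw [map_add D.oy]; abel
  uniq p q h := by
    rw [eq_X_mul_shift_add_const p, map_add, D.oy_C, ← D.ox_C] at h
    obtain ⟨h1, h2⟩ := D.uniq (C (constantCoeff p) + X * q) (PowerSeries.mk fun i => coeff (i + 1) p) (by
      rw [map_add]; linear_combination h)
    have h0 : constantCoeff p = 0 := by simpa using congrArg constantCoeff h1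
    have hq : q = 0 := PowerSeries.ext fun n => by
      simpa [coeff_succ_X_mul, coeff_C] using congrArg (coeff (n + 1)) h1
    refine ⟨?_, hq⟩
    rw [eq_X_mul_shift_add_const p, h0, h2]; simp
  unit p q hp := by
    rw [eq_X_mul_shift_add_const p, map_add, D.oy_C, ← D.ox_C, add_assoc, add_comm, ← map_add D.ox]
    exact D.unit (C (constantCoeff p) + X * q) _ (by simpa using hp)

/-- The `x`-part of the normal form. -/
def pr (f : A) : PowerSeries R := (D.ex f).choose
/-- The `y`-part of the normal form. -/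
def qr (f : A) : PowerSeries R := (D.ex f).choose_spec.choose

theorem nf (f : A) : f = D.ox (D.pr f) + D.oy (X * D.qr f) := (D.ex f).choose_spec.choose_spec

theorem nf_unique {f : A} {p q : PowerSeries R} (h : f = D.ox p + D.oy (X * q)) : D.pr f = p ∧ D.qr f = q := by
  have := D.uniq (D.pr f - p) (D.qr f - q) (by
    rw [map_sub, mul_sub, map_sub, show D.ox (D.pr f) - D.ox p + (D.oy (X * D.qr f) - D.oy (X * q)) =
      (D.ox (D.pr f) + D.oy (X * D.qr f)) - (D.ox p + D.oy (X * q)) by ring, ← D.nf, ← h, sub_self])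
  exact ⟨sub_eq_zero.1 this.1, sub_eq_zero.1 this.2⟩

theorem nf_add (f g : A) : D.pr (f + g) = D.pr f + D.pr g ∧ D.qr (f + g) = D.qr f + D.qr g :=
  D.nf_unique (by conv_lhs => rw [D.nf f, D.nf g]
                  rw [map_add, mul_add, map_add]; ring)

theorem nf_smul (a : R) (f : A) :
    D.pr (algebraMap R A a * f) = C a * D.pr f ∧ D.qr (algebraMap R A a * f) = C a * D.qr f :=
  D.nf_unique (by conv_lhs => rw [D.nf f]
                  rw [map_mul D.ox, mul_left_comm X, map_mul D.oy (C a), D.ox_C, D.oy_C]; ring)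

theorem nf_ox (p : PowerSeries R) : D.pr (D.ox p) = p ∧ D.qr (D.ox p) = 0 :=
  D.nf_unique (by simp)

/-- The raw Laurent coefficients. -/
def e (f : A) : ℤ → R
  | Int.ofNat n => coeff n (D.pr f)
  | Int.negSucc m => coeff m (D.qr f)

theorem e_natCast (f : A) (n : ℕ) : D.e f (n : ℤ) = coeff n (D.pr f) := rfl

theorem e_negSucc (f : A) (m : ℕ) : D.e f (Int.negSucc m) = coeff m (D.qr f) := rfl

theorem e_add (f g : A) (n : ℤ) : D.e (f + g) n = D.e f n + D.e g n := by
  cases n with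
  | ofNat n => simp [e, (D.nf_add f g).1]
  | negSucc m => simp [e, (D.nf_add f g).2]

theorem e_zero (n : ℤ) : D.e 0 n = 0 := by
  have h := D.nf_unique (f := (0 : A)) (p := 0) (q := 0) (by simp)
  cases n <;> simp [e, h.1, h.2]

theorem e_smul (a : R) (f : A) (n : ℤ) : D.e (algebraMap R A a * f) n = a * D.e f n := by
  cases n with
  | ofNat n => simp [e, (D.nf_smul a f).1]
  | negSucc m => simp [e, (D.nf_smul a f).2]

theorem eq_zero_of_e {f : A} (h : ∀ n, D.e f n = 0) : f = 0 := by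
  rw [D.nf f, show D.pr f = 0 from PowerSeries.ext fun n => by simpa [e_natCast] using h (n : ℤ),
    show D.qr f = 0 from PowerSeries.ext fun m => by simpa [e] using h (Int.negSucc m)]
  simp

theorem e_algebraMap (t : R) (n : ℤ) : D.e (algebraMap R A t) n = if n = 0 then t else 0 := by
  rw [← D.ox_C]
  cases n with
  | ofNat n =>
    show coeff n (D.pr (D.ox (C t))) = _
    rw [(D.nf_ox _).1, coeff_C]
    simp
  | negSucc m => simp [e, (D.nf_ox _).2]

theorem swap_e (f : A) (n : ℤ) : D.swap.e f n = D.e f (-n) := by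
  have h := D.swap.nf_unique (f := f) (p := C (constantCoeff (D.pr f)) + X * D.qr f)
    (q := PowerSeries.mk fun i => coeff (i + 1) (D.pr f)) (by
    show f = D.oy _ + D.ox _
    conv_lhs => rw [D.nf f, eq_X_mul_shift_add_const (D.pr f), map_add, D.ox_C, ← D.oy_C]
    rw [map_add D.oy]; abel)
  cases n with
  | ofNat n =>
    show coeff n (D.swap.pr f) = _
    rw [h.1]
    cases n with
    | zero => simp [e]
    | succ n =>
      show _ = D.e f (Int.negSucc n)
      rw [map_add, coeff_succ_X_mul, coeff_C, if_neg (Nat.succ_ne_zero n), zero_add]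
      rfl
  | negSucc m =>
    show coeff m (D.swap.qr f) = _
    rw [h.2, PowerSeries.coeff_mk]
    rfl

/-- The coefficients for the `x`-Gauss valuation. -/
def c (f : A) (n : ℤ) : R := r ^ (-n).toNat * D.e f n

theorem c_natCast (f : A) (n : ℕ) : D.c f (n : ℤ) = coeff n (D.pr f) := by
  simp [c, e_natCast]

theorem xpow_mul (M : ℕ) (f : A) :
    D.ox X ^ M * f = D.ox (PowerSeries.mk fun j => D.c f ((j : ℤ) - M)) +
      algebraMap R A (r ^ M) * D.oy (X * PowerSeries.mk fun m => coeff (M + m) (D.qr f)) := by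
  induction M with
  | zero =>
    rw [pow_zero, one_mul, pow_zero, map_one, one_mul]
    conv_lhs => rw [D.nf f]
    congr 2
    · refine PowerSeries.ext fun j => ?_
      rw [PowerSeries.coeff_mk, Nat.cast_zero, sub_zero, c_natCast]
    · exact congrArg (X * ·) (PowerSeries.ext fun j => by simp)
  | succ M ih =>
    have hsplit : (PowerSeries.mk fun m => coeff (M + m) (D.qr f)) =
        C (coeff M (D.qr f)) + X * PowerSeries.mk fun m => coeff (M + 1 + m) (D.qr f) := by
      refine PowerSeries.ext fun j => ?_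
      cases j with
      | zero => simp
      | succ j => simp [coeff_succ_X_mul, coeff_C, show M + (j + 1) = M + 1 + j by omega]
    have hS : (PowerSeries.mk fun j => D.c f ((j : ℤ) - (M + 1 : ℕ))) =
        C (r ^ (M + 1) * coeff M (D.qr f)) + X * PowerSeries.mk fun j => D.c f ((j : ℤ) - M) := by
      refine PowerSeries.ext fun j => ?_
      cases j with
      | zero =>
        rw [PowerSeries.coeff_mk, map_add, coeff_zero_X_mul, add_zero, coeff_zero_C, c,
          show ((0 : ℕ) : ℤ) - (M + 1 : ℕ) = Int.negSucc M by omega, e_negSucc]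
        rfl
      | succ j =>
        rw [PowerSeries.coeff_mk, map_add, coeff_succ_X_mul, coeff_C, if_neg (Nat.succ_ne_zero j), zero_add, PowerSeries.coeff_mk]
        congr 1
        omega
    rw [pow_succ', mul_assoc, ih, hS, hsplit]
    simp only [map_add, map_mul, mul_add, D.ox_C, D.oy_C, pow_succ, map_pow]
    linear_combination (algebraMap R A r ^ M * algebraMap R A (coeff M (D.qr f)) +
      algebraMap R A r ^ M * D.oy X * D.oy (PowerSeries.mk fun m => coeff (M + 1 + m) (D.qr f))) * D.mul_xy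

theorem e_mem_of_mem_map {I : Ideal R} {f : A} (hf : f ∈ I.map (algebraMap R A)) (n : ℤ) : D.e f n ∈ I := by
  suffices ∀ g, D.e (g * f) n ∈ I by simpa using this 1
  rw [Ideal.map] at hf
  induction hf using Submodule.span_induction with
  | mem x hx =>
    obtain ⟨a, ha, rfl⟩ := hx
    intro g
    rw [mul_comm, D.e_smul]
    exact I.mul_mem_right _ ha
  | zero => intro g; simp [D.e_zero]
  | add x y _ _ hx hy => intro g; rw [mul_add, D.e_add]; exact I.add_mem (hx g) (hy g)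
  | smul a x _ hx => intro g; rw [smul_eq_mul, ← mul_assoc]; exact hx _

variable [IsNoetherianRing R]

theorem ox_mem_map {I : Ideal R} {S : PowerSeries R} (hS : ∀ j, coeff j S ∈ I) :
    D.ox S ∈ I.map (algebraMap R A) := by
  classical
  obtain ⟨K, g, hg⟩ := Submodule.fg_iff_exists_fin_generating_family.1 (IsNoetherian.noetherian I)
  have : ∀ j, ∃ w : Fin K → R, ∑ l, w l * g l = coeff j S := fun j =>
    Ideal.mem_span_range_iff_exists_fun.1 (by rw [show Ideal.span (Set.range g) = I from hg]; exact hS j)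
  choose w hw using this
  have hdec : S = ∑ l, C (g l) * PowerSeries.mk fun j => w j l := PowerSeries.ext fun j => by
    rw [map_sum, ← hw j]
    exact Finset.sum_congr rfl fun l _ => by rw [coeff_C_mul, PowerSeries.coeff_mk, mul_comm]
  rw [hdec, map_sum]
  refine Submodule.sum_mem _ fun l _ => ?_
  rw [map_mul, D.ox_C]
  exact Ideal.mul_mem_right _ _ (Ideal.mem_map_of_mem _ (by rw [← hg]; exact Submodule.subset_span ⟨l, rfl⟩))

variable (v : AddValuation R ℕ∞)

/-- The ideals of the filtration. -/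
def _root_.Groth.Agent.NodeVal3.filt (k : ℕ) : Ideal R where
  carrier := {a | (k : ℕ∞) ≤ v a}
  add_mem' ha hb := v.map_le_add ha hb
  zero_mem' := by simp
  smul_mem' a b hb := by
    show (k : ℕ∞) ≤ v (a * b)
    rw [v.map_mul]
    exact hb.trans le_add_self

theorem mem_filt {k : ℕ} {a : R} : a ∈ filt v k ↔ (k : ℕ∞) ≤ v a := Iff.rfl

/-- `f` has `x`-leading term of valuation `σ` in degree `n`. -/
def Lead (f : A) (σ : ℕ) (n : ℤ) : Prop :=
  ∃ M k : ℕ, ∃ S : PowerSeries R, ∃ ρ ∈ (filt v (σ + 1)).map (algebraMap R A),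
    (M : ℤ) + n = k ∧ D.ox X ^ M * f = D.ox S + ρ ∧ (∀ j, (σ : ℕ∞) ≤ v (coeff j S)) ∧
    (∀ j < k, (σ : ℕ∞) < v (coeff j S)) ∧ v (coeff k S) = σ

theorem lt_iff_succ_le {σ : ℕ} {a : ℕ∞} : (σ : ℕ∞) < a ↔ ((σ + 1 : ℕ) : ℕ∞) ≤ a := by
  push_cast
  exact (ENat.add_one_le_iff (ENat.coe_ne_top σ)).symm

theorem Lead.mul {f g : A} {σ τ : ℕ} {n m : ℤ} (hf : D.Lead v f σ n) (hg : D.Lead v g τ m) :
    D.Lead v (f * g) (σ + τ) (n + m) := by
  classical
  obtain ⟨M, k, S, ρ, hρ, hk, hS, hge, hlt, heq⟩ := hf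
  obtain ⟨M', k', S', ρ', hρ', hk', hS', hge', hlt', heq'⟩ := hg
  refine ⟨M + M', k + k', S * S', D.ox S * ρ' + ρ * D.ox S' + ρ * ρ', ?_, by omega, ?_, fun j => ?_,
    fun j hj => ?_, ?_⟩
  · have hmap : ∀ a b : ℕ, σ + τ + 1 ≤ a + b → ∀ {x y : A}, x ∈ (filt v a).map (algebraMap R A) →
        y ∈ (filt v b).map (algebraMap R A) → x * y ∈ (filt v (σ + τ + 1)).map (algebraMap R A) := by
      intro a b hab x y hx hy
      refine Ideal.map_mono ?_ ((Ideal.map_mul (algebraMap R A) (filt v a) (filt v b)).symm ▸ Ideal.mul_mem_mul hx hy)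
      refine Ideal.mul_le.2 fun x hx y hy => ?_
      rw [mem_filt, v.map_mul]
      exact le_trans (by exact_mod_cast hab) (add_le_add hx hy)
    refine add_mem (add_mem ?_ ?_) ?_
    · exact hmap σ (τ + 1) (by omega) (D.ox_mem_map fun j => hge j) hρ'
    · exact hmap (σ + 1) τ (by omega) hρ (D.ox_mem_map fun j => hge' j)
    · exact hmap (σ + 1) (τ + 1) (by omega) hρ hρ'
  · rw [pow_add, show D.ox X ^ M * D.ox X ^ M' * (f * g) = (D.ox X ^ M * f) * (D.ox X ^ M' * g) by ring, hS, hS', map_mul]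
    ring
  · rw [coeff_mul, Nat.cast_add]
    exact v.map_le_sum fun x _ => by rw [v.map_mul]; exact add_le_add (hge _) (hge' _)
  · rw [coeff_mul, Nat.cast_add]
    refine v.map_lt_sum (by exact_mod_cast ENat.coe_ne_top (σ + τ)) fun x hx => ?_
    rw [v.map_mul]
    rw [Finset.mem_antidiagonal] at hx
    rcases lt_or_ge x.1 k with h | h
    · exact ENat.add_lt_add_of_lt_of_le (ENat.coe_ne_top τ) (hlt _ h) (hge' _)
    · exact ENat.add_lt_add_of_le_of_lt (ENat.coe_ne_top σ) (hge _) (hlt' _ (by omega))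
  · rw [coeff_mul, ← Finset.add_sum_erase _ _ (show (k, k') ∈ Finset.antidiagonal (k + k') by simp)]
    have hmain : v (coeff k S * coeff k' S') = ((σ + τ : ℕ) : ℕ∞) := by rw [v.map_mul, heq, heq']; simp
    rw [v.map_add_eq_of_lt_left, hmain]
    rw [hmain]
    refine v.map_lt_sum (ENat.coe_ne_top _) fun x hx => ?_
    rw [Finset.mem_erase, Finset.mem_antidiagonal] at hx
    rw [v.map_mul, Nat.cast_add]
    rcases lt_or_ge x.1 k with h | h
    · exact ENat.add_lt_add_of_lt_of_le (ENat.coe_ne_top τ) (hlt _ h) (hge' _)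
    · refine ENat.add_lt_add_of_le_of_lt (ENat.coe_ne_top σ) (hge _) (hlt' _ ?_)
      by_contra hc
      exact hx.1 (Prod.ext (by omega) (by omega))

theorem Lead.v_c {f : A} {σ : ℕ} {n : ℤ} (hf : D.Lead v f σ n) : v (D.c f n) = σ := by
  obtain ⟨M, k, S, ρ, hρ, hk, hS, -, -, heq⟩ := hf
  have hq : D.pr (algebraMap R A (r ^ M) * D.oy (X * PowerSeries.mk fun m => coeff (M + m) (D.qr f))) = 0 := by
    rw [(D.nf_smul _ _).1, (D.nf_unique (f := D.oy (X * PowerSeries.mk fun m => coeff (M + m) (D.qr f))) (p := 0) (by rw [map_zero, zero_add])).1,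
      mul_zero]
  have h1 : D.c f n = coeff k S + D.e ρ k := by
    have := congrArg (fun g => D.e g (k : ℤ)) hS
    simp only [D.e_add, e_natCast, (D.nf_ox S).1] at this
    rw [D.xpow_mul, (D.nf_add _ _).1, hq, add_zero, (D.nf_ox _).1, PowerSeries.coeff_mk] at this
    rw [D.e_natCast, ← this]
    congr 1
    omega
  have h2 : ((σ + 1 : ℕ) : ℕ∞) ≤ v (D.e ρ k) := D.e_mem_of_mem_map hρ k
  rw [h1, v.map_add_eq_of_lt_left (by rw [heq]; exact lt_iff_succ_le.2 h2), heq]

theorem pow_le_v (hr : 1 ≤ v r) : ∀ j : ℕ, (j : ℕ∞) ≤ v (r ^ j)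
  | 0 => by simp
  | j + 1 => by
    rw [pow_succ, v.map_mul, Nat.cast_add, Nat.cast_one]
    exact add_le_add (pow_le_v hr j) hr

theorem exists_lead (hr : 1 ≤ v r) {f : A} (hf : ∃ n, v (D.c f n) ≠ ⊤) :
    ∃ σ n₀, D.Lead v f σ n₀ ∧ (∀ n, (σ : ℕ∞) ≤ v (D.c f n)) ∧ (∀ n < n₀, (σ : ℕ∞) < v (D.c f n)) := by
  classical
  have hex : ∃ σ n, v (D.c f n) = (σ : ℕ) := by
    obtain ⟨n, hn⟩ := hf
    exact ⟨_, n, (ENat.coe_toNat hn).symm⟩
  let σ := Nat.find hex
  have hge : ∀ n, (σ : ℕ∞) ≤ v (D.c f n) := fun n => by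
    rcases eq_or_ne (v (D.c f n)) ⊤ with h | h
    · rw [h]; exact le_top
    · rw [← ENat.coe_toNat h]
      exact_mod_cast Nat.find_min' hex ⟨n, (ENat.coe_toNat h).symm⟩
  have hneg : ∀ n : ℤ, ∀ j : ℕ, (j : ℤ) ≤ -n → (j : ℕ∞) ≤ v (D.c f n) := fun n j hj => by
    rw [c, v.map_mul]
    refine le_trans ?_ le_self_add
    exact le_trans (by exact_mod_cast (by omega : j ≤ (-n).toNat)) (pow_le_v v hr _)
  obtain ⟨n₀, hn₀, hleast⟩ := Int.exists_least_of_bdd (P := fun n => v (D.c f n) = σ)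
    ⟨-σ, fun n hn => by
      by_contra hc
      have := hneg n (σ + 1) (by omega)
      rw [hn, Nat.cast_le] at this
      omega⟩ (Nat.find_spec hex)
  have hlow : ∀ n < n₀, (σ : ℕ∞) < v (D.c f n) := fun n hn =>
    lt_of_le_of_ne (hge n) fun h => by have := hleast n h.symm; omega
  refine ⟨σ, n₀, ⟨max (σ + 1) (-n₀).toNat, (n₀ + max (σ + 1) (-n₀).toNat).toNat, _, _, ?_, by omega,
    D.xpow_mul _ f, fun j => ?_, fun j hj => ?_, ?_⟩, hge, hlow⟩
  · refine Ideal.mul_mem_right _ _ (Ideal.mem_map_of_mem _ ?_)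
    exact le_trans (by exact_mod_cast le_max_left (σ + 1) (-n₀).toNat) (pow_le_v v hr _)
  · rw [PowerSeries.coeff_mk]; exact hge _
  · rw [PowerSeries.coeff_mk]; exact hlow _ (by omega)
  · rw [PowerSeries.coeff_mk, Int.toNat_of_nonneg (by omega), add_sub_cancel_right]
    exact hn₀

/-- Endpoint analysis of a product equal to a constant. -/
theorem exists_center (hr : 1 ≤ v r) (hr' : v r ≠ ⊤) {a b : A} {t : R} (hab : a * b = algebraMap R A t)
    (ht : v t ≠ ⊤) (hb : ∃ n, v (D.e b n) ≠ ⊤) (ha : ∃ n, v (D.e a n) ≠ ⊤) :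
    ∃ (N : ℤ) (σ τ : ℕ), (σ + τ : ℕ) = v t ∧
      v (D.c a N) = σ ∧ v (D.c b (-N)) = τ ∧
      (∀ n, (σ : ℕ∞) ≤ v (D.c a n) ∧ (τ : ℕ∞) ≤ v (D.c b n)) ∧
      (∀ n < N, (σ : ℕ∞) + ((N - n).toNat * (v r).toNat : ℕ) ≤ v (D.c a n)) ∧
      (∀ n < -N, (τ : ℕ∞) + ((-N - n).toNat * (v r).toNat : ℕ) ≤ v (D.c b n)) := by
  classical
  set e := (v r).toNat
  have he : v r = (e : ℕ∞) := (ENat.coe_toNat hr').symm
  have he1 : 1 ≤ e := by rw [he] at hr; exact_mod_cast hr
  have hpow : ∀ j : ℕ, v (r ^ j) = ((j * e : ℕ) : ℕ∞) := fun j => by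
    induction j with
    | zero => simp
    | succ j ih => rw [pow_succ, v.map_mul, ih, he, Nat.succ_mul]; push_cast; rfl
  have hc : ∀ (E : NodeData R A r) (f : A) n, v (E.c f n) = (((-n).toNat * e : ℕ) : ℕ∞) + v (E.e f n) := fun E f n => by
    rw [c, v.map_mul, hpow]
  have hne : ∀ (E : NodeData R A r) (f : A), (∃ n, v (E.e f n) ≠ ⊤) → ∃ n, v (E.c f n) ≠ ⊤ := fun E f ⟨n, hn⟩ =>
    ⟨n, by rw [hc]; exact WithTop.add_ne_top.2 ⟨ENat.coe_ne_top _, hn⟩⟩
  have hT : ∀ (E : NodeData R A r) {σ : ℕ} {n : ℤ}, E.Lead v (algebraMap R A t) σ n → n = 0 ∧ (σ : ℕ∞) = v t := by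
    intro E σ n h
    have := h.v_c
    rw [c, E.e_algebraMap] at this
    rcases eq_or_ne n 0 with rfl | hn
    · rw [if_pos rfl] at this; simp at this; exact ⟨rfl, this.symm⟩
    · rw [if_neg hn, mul_zero, v.map_zero] at this
      exact absurd this.symm (ENat.coe_ne_top σ)
  have hsw : ∀ (f : A), (∃ n, v (D.e f n) ≠ ⊤) → ∃ n, v (D.swap.e f n) ≠ ⊤ := fun f ⟨n, hn⟩ =>
    ⟨-n, by rw [D.swap_e, neg_neg]; exact hn⟩
  obtain ⟨σ, N, hLa, hga, -⟩ := D.exists_lead v hr (hne D a ha)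
  obtain ⟨τ, N', hLb, hgb, -⟩ := D.exists_lead v hr (hne D b hb)
  obtain ⟨σ', P, hLa', hga', -⟩ := D.swap.exists_lead v hr (hne D.swap a (hsw a ha))
  obtain ⟨τ', P', hLb', hgb', -⟩ := D.swap.exists_lead v hr (hne D.swap b (hsw b hb))
  obtain ⟨hN, hσ⟩ := hT D (hab ▸ hLa.mul D v hLb)
  obtain ⟨hP, hσ'⟩ := hT D.swap (hab ▸ hLa'.mul D.swap v hLb')
  -- finite values
  have fin : ∀ {w : ℕ∞} {s j : ℕ}, (j : ℕ∞) + w = (s : ℕ) → ∃ z : ℕ, w = (z : ℕ) ∧ j + z = s := fun {w s j} h => by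
    have hw : w ≠ ⊤ := fun hw => by rw [hw, add_top] at h; exact ENat.coe_ne_top s h.symm
    obtain ⟨z, rfl⟩ := ENat.ne_top_iff_exists.1 hw
    exact ⟨z, rfl, by exact_mod_cast h⟩
  -- `-P ≤ N`, and equality
  have key : ∀ (f : A) (s s' : ℕ) (n m : ℤ), D.Lead v f s n → D.swap.Lead v f s' m →
      (∀ i, (s : ℕ∞) ≤ v (D.c f i)) → (∀ i, (s' : ℕ∞) ≤ v (D.swap.c f i)) →
      ∃ z z' : ℕ, v (D.e f n) = z ∧ v (D.e f (-m)) = z' ∧ (-n).toNat * e + z = s ∧ (-m).toNat * e + z' = s' ∧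
        s ≤ m.toNat * e + z' ∧ s' ≤ n.toNat * e + z := by
    intro f s s' n m h h' hs hs'
    obtain ⟨z, hz, hz1⟩ := fin ((hc D f n).symm.trans h.v_c)
    obtain ⟨z', hz', hz1'⟩ := fin ((hc D.swap f m).symm.trans h'.v_c)
    rw [D.swap_e] at hz'
    refine ⟨z, z', hz, hz', hz1, hz1', ?_, ?_⟩
    · have := hs (-m); rw [hc, hz', neg_neg] at this; exact_mod_cast this
    · have := hs' (-n); rw [hc, D.swap_e, neg_neg, hz] at this; exact_mod_cast this
  obtain ⟨za, za', hza, -, ha1, ha2, ha3, ha4⟩ := key a σ σ' N P hLa hLa' hga hga'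
  obtain ⟨zb, zb', hzb, -, hb1, hb2, hb3, hb4⟩ := key b τ τ' N' P' hLb hLb' hgb hgb'
  have tn : ∀ i : ℤ, (i.toNat : ℤ) * e - ((-i).toNat : ℤ) * e = i * e := fun i => by
    rw [← sub_mul]; congr 1; omega
  have i1 := tn N; have i2 := tn P; have i3 := tn N'; have i4 := tn P'
  zify at ha1 ha2 ha3 ha4 hb1 hb2 hb3 hb4
  have hB : (P' : ℤ) = -P := by omega
  have hN'' : N' = -N := by omega
  subst hB hN''
  have hle1 : (σ : ℤ) - σ' ≤ P * e := by linarith
  have hle1' : (σ' : ℤ) - σ ≤ N * e := by linarith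
  have hle2 : (τ : ℤ) - τ' ≤ -P * e := by linarith
  have hle2' : (τ' : ℤ) - τ ≤ -N * e := by linarith
  have htot : (σ : ℤ) + τ = σ' + τ' := by
    have h := hσ.trans hσ'.symm
    exact_mod_cast h
  have hd : (σ' : ℤ) - σ = N * e := by linarith
  have hd2 : (τ' : ℤ) - τ = -N * e := by linarith
  refine ⟨N, σ, τ, hσ, hLa.v_c, hLb.v_c, fun n => ⟨hga n, hgb n⟩, fun n hn => ?_, fun n hn => ?_⟩
  all_goals
    rw [hc]
    rcases eq_or_ne (v (D.e _ n)) ⊤ with h | h
    · rw [h, add_top]; exact le_top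
  · obtain ⟨z, hz⟩ := ENat.ne_top_iff_exists.1 h
    have := hga' (-n)
    rw [hc, D.swap_e, neg_neg, ← hz] at this
    rw [← hz]
    norm_cast at this ⊢
    zify at this ⊢
    have i5 := tn n
    rw [Int.toNat_of_nonneg (by omega : 0 ≤ N - n)]
    linarith
  · obtain ⟨z, hz⟩ := ENat.ne_top_iff_exists.1 h
    have := hgb' (-n)
    rw [hc, D.swap_e, neg_neg, ← hz] at this
    rw [← hz]
    norm_cast at this ⊢
    zify at this ⊢
    have i5 := tn n
    rw [Int.toNat_of_nonneg (by omega : 0 ≤ -N - n)]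
    linarith

end NodeData

end Groth.Agent.NodeVal3
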