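import Groth.Agent.Lib.NodeVal3.Inst
import Mathlib.RingTheory.Ideal.KrullsHeightTheorem
import Mathlib.RingTheory.Localization.AtPrime.Basic

/-! # Fibral height one primes of the node and of its completion -/

set_option autoImplicit false
set_option linter.style.haveILetI false
universe u

open PowerSeries

noncomputable section

namespace Groth.Agent.NodeVal3

namespace NodeData

variable {R A : Type u} [CommRing R] [CommRing A] [Algebra R A] {r : R} (D : NodeData R A r)

theorem dvd_pr_y_mul [IsDomain R] (hr : r ≠ 0) (h : A) (n : ℕ) : r ∣ coeff n (D.pr (D.oy X * h)) := by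
  refine ⟨D.e h ((n : ℤ) + 1), ?_⟩
  have h1 := D.swap.c_xpow_mul 1 h (-(n : ℤ))
  simp only [c, swap_e, neg_neg, pow_one, Int.toNat_natCast, Nat.cast_one, neg_sub, sub_neg_eq_add] at h1
  rw [show (1 : ℤ) + n = n + 1 from add_comm _ _, show ((n : ℤ) + 1).toNat = n + 1 by omega, pow_succ, mul_assoc] at h1
  exact mul_left_cancel₀ (pow_ne_zero n hr) h1

theorem mem_span_y_iff [IsDomain R] (hr : r ≠ 0) {π : R} (hπr : π ∣ r) (f : A) :
    f ∈ Ideal.span {algebraMap R A π, D.oy X} ↔ ∀ n, π ∣ coeff n (D.pr f) := by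
  constructor
  · intro hf n
    obtain ⟨a, b, rfl⟩ := Ideal.mem_span_pair.1 hf
    rw [(D.nf_add _ _).1, map_add, mul_comm a, (D.nf_smul _ _).1, coeff_C_mul, mul_comm b]
    exact dvd_add (dvd_mul_right _ _) (hπr.trans (D.dvd_pr_y_mul hr b n))
  · intro hf
    choose w hw using hf
    refine Ideal.mem_span_pair.2 ⟨D.ox (PowerSeries.mk w), D.oy (D.qr f), ?_⟩
    conv_rhs => rw [D.nf f, show D.pr f = C π * PowerSeries.mk w from
      PowerSeries.ext fun n => by rw [coeff_C_mul, PowerSeries.coeff_mk, hw]]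
    rw [map_mul D.ox, D.ox_C, map_mul D.oy]; ring

theorem isPrime_span_y [IsDomain R] (hr : r ≠ 0) {π : R} (hπ : Prime π) (hπr : π ∣ r) :
    (Ideal.span {algebraMap R A π, D.oy X}).IsPrime := by
  haveI : (Ideal.span {π}).IsPrime := (Ideal.span_singleton_prime hπ.ne_zero).2 hπ
  let q := PowerSeries.map (Ideal.Quotient.mk (Ideal.span {π}))
  have hq : ∀ f, f ∈ Ideal.span {algebraMap R A π, D.oy X} ↔ q (D.pr f) = 0 := fun f => by
    rw [D.mem_span_y_iff hr hπr, PowerSeries.ext_iff]
    exact forall_congr' fun n => by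
      rw [coeff_map, map_zero, Ideal.Quotient.eq_zero_iff_mem, Ideal.mem_span_singleton]
  refine ⟨fun h => hπ.not_isUnit (isUnit_of_dvd_one ?_), fun {f g} hfg => ?_⟩
  · have := (D.mem_span_y_iff hr hπr 1).1 (h ▸ Submodule.mem_top) 0
    rwa [show (1 : A) = D.ox 1 by simp, (D.nf_ox _).1, coeff_zero_eq_constantCoeff_apply, map_one] at this
  · rw [hq] at hfg ⊢
    rw [hq]
    have hd : f * g - D.ox (D.pr f * D.pr g) ∈ Ideal.span {algebraMap R A π, D.oy X} := by
      conv => arg 2; arg 1; rw [D.nf f, D.nf g]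
      rw [map_mul D.ox, map_mul D.oy, map_mul D.oy]
      exact Ideal.mem_span_pair.2 ⟨0, D.ox (D.pr f) * D.oy (D.qr g) + D.oy (D.qr f) *
        (D.ox (D.pr g) + D.oy X * D.oy (D.qr g)), by ring⟩
    have h2 : q (D.pr (f * g)) = q (D.pr f * D.pr g) := by
      conv_lhs => rw [show f * g = (f * g - D.ox (D.pr f * D.pr g)) + D.ox (D.pr f * D.pr g) by ring]
      rw [(D.nf_add _ _).1, map_add, (hq _).1 hd, zero_add, (D.nf_ox _).1]
    rw [h2, map_mul] at hfg
    exact mul_eq_zero.1 hfg

end NodeData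

variable {R : Type u} [CommRing R] (r : R)

/-- One variable polynomials in the `i`-th variable. -/
def pVar (i : Fin 2) : Polynomial R →ₐ[R] SpinCurv.PolyNodeRing R r :=
  Polynomial.aeval (Ideal.Quotient.mk _ (MvPolynomial.X i))

theorem poly_mul_xy : (Ideal.Quotient.mk _ (MvPolynomial.X 0) : SpinCurv.PolyNodeRing R r) * Ideal.Quotient.mk _ (MvPolynomial.X 1) =
    algebraMap R _ r := by
  show _ = Ideal.Quotient.mk _ (MvPolynomial.C r)
  rw [← map_mul, Ideal.Quotient.eq]
  exact Ideal.mem_span_singleton_self _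

theorem exists_poly_form (f : SpinCurv.PolyNodeRing R r) :
    ∃ p q : Polynomial R, f = pVar r 0 p + pVar r 1 (Polynomial.X * q) := by
  obtain ⟨f, rfl⟩ := Ideal.Quotient.mk_surjective f
  induction f using MvPolynomial.induction_on with
  | C a => exact ⟨Polynomial.C a, 0, by simp [pVar]; rfl⟩
  | add f g hf hg =>
    obtain ⟨p, q, hf⟩ := hf
    obtain ⟨p', q', hg⟩ := hg
    exact ⟨p + p', q + q', by rw [map_add, hf, hg, map_add, mul_add, map_add]; ring⟩
  | mul_X f i hf =>
    obtain ⟨p, q, hf⟩ := hf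
    rw [map_mul, hf]
    have hxy := poly_mul_xy r
    fin_cases i
    · refine ⟨Polynomial.X * p + Polynomial.C (r * q.coeff 0), Polynomial.C r * q.divX, ?_⟩
      conv_lhs => rw [← q.X_mul_divX_add]
      simp only [pVar, map_add, map_mul, Polynomial.aeval_X, Polynomial.aeval_C, Fin.zero_eta]
      linear_combination (algebraMap R (SpinCurv.PolyNodeRing R r) (q.coeff 0) +
        Ideal.Quotient.mk _ (MvPolynomial.X 1) * Polynomial.aeval (Ideal.Quotient.mk _ (MvPolynomial.X 1)) q.divX) * hxy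
    · refine ⟨Polynomial.C r * p.divX, Polynomial.C (p.coeff 0) + Polynomial.X * q, ?_⟩
      conv_lhs => rw [← p.X_mul_divX_add]
      simp only [pVar, map_add, map_mul, Polynomial.aeval_X, Polynomial.aeval_C, Fin.mk_one]
      linear_combination (Polynomial.aeval (Ideal.Quotient.mk _ (MvPolynomial.X 0)) p.divX : SpinCurv.PolyNodeRing R r) * hxy

set_option backward.isDefEq.respectTransparency false in
open IsLocalRing in
theorem bijOn [IsRegularLocalRing R] [IsAdicComplete (maximalIdeal R) R] (hr : r ≠ 0)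
    (ι : SpinCurv.PolyNodeRing R r →+* SpinCurv.NodeRing R r)
    (hι : ι.comp (Ideal.Quotient.mk _) =
      (Ideal.Quotient.mk _).comp (MvPolynomial.coeToMvPowerSeries.ringHom : MvPolynomial (Fin 2) R →+* MvPowerSeries (Fin 2) R))
    (P : Ideal (SpinCurv.PolyNodeRing R r)) [P.IsPrime]
    (hP : P = Ideal.span {Ideal.Quotient.mk _ (MvPolynomial.X 0), Ideal.Quotient.mk _ (MvPolynomial.X 1)} ⊔
      (maximalIdeal R).map (algebraMap R _))
    (φ : Localization.AtPrime P →+* SpinCurv.NodeRing R r)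
    (hφ : φ.comp (algebraMap _ (Localization.AtPrime P)) = ι) :
    Set.BijOn (fun 𝔓 => Ideal.comap φ 𝔓)
      {𝔓 | 𝔓.IsPrime ∧ 𝔓.height = 1 ∧ Ideal.comap (algebraMap R _) 𝔓 ≠ ⊥}
      {𝔮 : Ideal (Localization.AtPrime P) | 𝔮.IsPrime ∧ @Ideal.height (Localization.AtPrime P) _ 𝔮 = 1 ∧
        Ideal.comap (algebraMap R (Localization.AtPrime P)) 𝔮 ≠ ⊥} := by
  haveI : IsDomain R := RegLoc.isDomain R
  haveI : UniqueFactorizationMonoid R := RegLoc.ufd_of_isRegularLocalRing R
  have hr1 : r ∈ maximalIdeal R := by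
    by_contra h
    have hu : IsUnit (algebraMap R (SpinCurv.PolyNodeRing R r) r) := (IsLocalRing.notMem_maximalIdeal.1 h).map _
    refine (inferInstance : P.IsPrime).ne_top (Ideal.eq_top_of_isUnit_mem _ ?_ hu)
    rw [← poly_mul_xy r, hP]
    exact Ideal.mem_sup_left (Ideal.mul_mem_right _ _ (Ideal.subset_span (Or.inl rfl)))
  let D := nodeData R r hr1
  have hιa : ∀ t, ι (algebraMap R (SpinCurv.PolyNodeRing R r) t) = algebraMap R (SpinCurv.NodeRing R r) t := fun t => by
    show ι (Ideal.Quotient.mk _ (MvPolynomial.C t)) = Ideal.Quotient.mk _ (MvPowerSeries.C t)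
    rw [← RingHom.comp_apply, hι, RingHom.comp_apply, MvPolynomial.coeToMvPowerSeries.ringHom_apply, MvPolynomial.coe_C]
  have hιX : ∀ i, ι (Ideal.Quotient.mk _ (MvPolynomial.X i)) = Ideal.Quotient.mk _ (MvPowerSeries.X i) := fun i => by
    rw [← RingHom.comp_apply, hι, RingHom.comp_apply, MvPolynomial.coeToMvPowerSeries.ringHom_apply, MvPolynomial.coe_X]
  have hι0 : ∀ p, ι (pVar r 0 p) = D.ox p := fun p => by
    induction p using Polynomial.induction_on with
    | C a => simp [pVar, hιa, D.ox_C]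
    | add a b ha hb => simp [map_add, ha, hb]
    | monomial n a _ => simp [pVar, hιa, hιX, map_pow, D.ox_C, ox_X R r hr1, D]
  have hι1 : ∀ p, ι (pVar r 1 p) = D.oy p := fun p => by
    induction p using Polynomial.induction_on with
    | C a => simp [pVar, hιa, D.oy_C]
    | add a b ha hb => simp [map_add, ha, hb]
    | monomial n a _ => simp [pVar, hιa, hιX, map_pow, D.oy_C, oy_X R r hr1, D]
  have hιnf : ∀ p q : Polynomial R, D.pr (ι (pVar r 0 p + pVar r 1 (Polynomial.X * q))) = p ∧
      D.qr (ι (pVar r 0 p + pVar r 1 (Polynomial.X * q))) = q := fun p q =>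
    D.nf_unique (by rw [map_add, hι0, hι1]; push_cast; rfl)
  have hdvd : ∀ (π : R) (p : Polynomial R) (i : Fin 2), (∀ n, π ∣ p.coeff n) →
      algebraMap R (SpinCurv.PolyNodeRing R r) π ∣ pVar r i p := fun π p i hp => by
    obtain ⟨w, rfl⟩ : Polynomial.C π ∣ p := (Polynomial.C_dvd_iff_dvd_coeff π p).2 hp
    exact ⟨pVar r i w, by simp [pVar]⟩
  have hφa : ∀ a, φ (algebraMap (SpinCurv.PolyNodeRing R r) (Localization.AtPrime P) a) = ι a := fun a => RingHom.congr_fun hφ a
  have hφR : ∀ t, φ (algebraMap R (Localization.AtPrime P) t) = algebraMap R (SpinCurv.NodeRing R r) t := fun t => by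
    rw [IsScalarTower.algebraMap_apply R (SpinCurv.PolyNodeRing R r) (Localization.AtPrime P), hφa, hιa]
  have hφinj : Function.Injective φ := by
    rw [injective_iff_map_eq_zero]
    intro x hx
    obtain ⟨⟨a, s⟩, rfl⟩ := IsLocalization.mk'_surjective P.primeCompl x
    have hs : IsUnit (φ (algebraMap (SpinCurv.PolyNodeRing R r) (Localization.AtPrime P) s)) := (IsLocalization.map_units (Localization.AtPrime P) s).map φ
    have h0 : φ (IsLocalization.mk' (Localization.AtPrime P) a s) * φ (algebraMap (SpinCurv.PolyNodeRing R r) (Localization.AtPrime P) s) = ι a := by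
      rw [← map_mul, IsLocalization.mk'_spec, hφa]
    rw [hx, zero_mul] at h0
    obtain ⟨p, q, rfl⟩ := exists_poly_form r a
    have hp : p = 0 := Polynomial.coe_injective R (by
      rw [← (hιnf p q).1, ← h0, Polynomial.coe_zero, ← map_zero D.ox, (D.nf_ox _).1])
    have hq : q = 0 := Polynomial.coe_injective R (by
      rw [← (hιnf p q).2, ← h0, Polynomial.coe_zero, ← map_zero D.ox, (D.nf_ox _).2])
    simp [hp, hq, IsLocalization.mk'_zero]
  haveI : Nontrivial (SpinCurv.NodeRing R r) := nontrivial_of_ne (algebraMap R (SpinCurv.NodeRing R r) 1) (algebraMap R (SpinCurv.NodeRing R r) 0)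
    fun h => one_ne_zero (D.algebraMap_injective h)
  obtain ⟨π₀, hπ₀⟩ := WfDvdMonoid.exists_irreducible_factor
    (fun h => (IsLocalRing.mem_maximalIdeal r).1 hr1 h) hr
  haveI : IsDomain (SpinCurv.NodeRing R r) := by
    haveI : NoZeroDivisors (SpinCurv.NodeRing R r) := ⟨fun {f g} hfg => by
      by_contra h
      push Not at h
      set v := multiplicity_addValuation (UniqueFactorizationMonoid.irreducible_iff_prime.1 hπ₀.1)
      have h1 : 1 ≤ v r := by
        rw [multiplicity_addValuation_apply]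
        exact_mod_cast le_emultiplicity_of_pow_dvd (k := 1) (by simpa using hπ₀.2)
      have hv : ∀ x : R, x ≠ 0 → v x ≠ ⊤ := fun x hx => by
        rw [multiplicity_addValuation_apply]
        exact finiteMultiplicity_iff_emultiplicity_ne_top.1
          (FiniteMultiplicity.of_prime_left (UniqueFactorizationMonoid.irreducible_iff_prime.1 hπ₀.1) hx)
      rcases D.dvd_or_dvd (π := 0) v h1 (hv r hr) (fun x => ⟨fun hx => by
          rw [zero_dvd_iff]; by_contra hx0; exact hv x hx0 hx, fun hx => by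
          rw [zero_dvd_iff.1 hx]; exact v.map_zero⟩)
        (by rw [map_zero, zero_dvd_iff]; exact hfg) with h' | h'
      · rw [map_zero, zero_dvd_iff] at h'; exact h.1 h'
      · rw [map_zero, zero_dvd_iff] at h'; exact h.2 h'⟩
    exact NoZeroDivisors.to_isDomain (SpinCurv.NodeRing R r)
  haveI : IsDomain (Localization.AtPrime P) := hφinj.isDomain φ
  haveI : IsNoetherianRing (Localization.AtPrime P) := IsLocalization.isNoetherianRing P.primeCompl (Localization.AtPrime P) inferInstance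
  -- the candidate primes
  let Cand : Set (Set (SpinCurv.PolyNodeRing R r)) := {G | ∃ π, Prime π ∧ ((¬ π ∣ r ∧ G = {algebraMap R (SpinCurv.PolyNodeRing R r) π}) ∨
    (π ∣ r ∧ ∃ i, G = {algebraMap R (SpinCurv.PolyNodeRing R r) π, Ideal.Quotient.mk _ (MvPolynomial.X i)}))}
  let IA : Set (SpinCurv.PolyNodeRing R r) → Ideal (SpinCurv.NodeRing R r) := fun G => (Ideal.span G).map ι
  let IL : Set (SpinCurv.PolyNodeRing R r) → Ideal (Localization.AtPrime P) := fun G => (Ideal.span G).map (algebraMap (SpinCurv.PolyNodeRing R r) (Localization.AtPrime P))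
  have hprime : ∀ G ∈ Cand, (IA G).IsPrime ∧ ∀ a, ι a ∈ IA G → a ∈ Ideal.span G := by
    rintro G ⟨π, hπ, ⟨hπr, rfl⟩ | ⟨hπr, i, rfl⟩⟩
    · simp only [IA, Ideal.map_span, Set.image_singleton, hιa]
      refine ⟨⟨fun h => ?_, fun {f g} hfg => ?_⟩, fun a ha => ?_⟩
      · have := D.e_mem_of_mem_map (I := Ideal.span {π}) (f := 1)
          (by rw [Ideal.map_span, Set.image_singleton, h]; trivial) 0
        rw [← map_one (algebraMap R (SpinCurv.NodeRing R r)), D.e_algebraMap, if_pos rfl, Ideal.mem_span_singleton] at this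
        exact hπ.not_isUnit (isUnit_of_dvd_one this)
      · simp only [Ideal.mem_span_singleton] at hfg ⊢
        exact strip R r hr1 π hπ hπr f g hfg
      · obtain ⟨p, q, rfl⟩ := exists_poly_form r a
        rw [show Ideal.span {algebraMap R (SpinCurv.NodeRing R r) π} = (Ideal.span {π}).map (algebraMap R (SpinCurv.NodeRing R r)) by
          rw [Ideal.map_span, Set.image_singleton]] at ha
        have he := D.e_mem_of_mem_map ha
        have hp : ∀ n, π ∣ p.coeff n := fun n => by
          have h := he (n : ℤ)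
          rwa [D.e_natCast, (hιnf p q).1, Polynomial.coeff_coe, Ideal.mem_span_singleton] at h
        have hq : ∀ n, π ∣ q.coeff n := fun n => by
          have h := he (Int.negSucc n)
          rwa [D.e_negSucc, (hιnf p q).2, Polynomial.coeff_coe, Ideal.mem_span_singleton] at h
        rw [Ideal.mem_span_singleton, map_mul (pVar r 1)]
        exact dvd_add (hdvd π p 0 hp) ((hdvd π q 1 hq).mul_left _)
    · simp only [IA, Ideal.map_span, Set.image_pair, hιa, hιX]
      fin_cases i
      · refine ⟨by rw [Fin.zero_eta, ← ox_X R r hr1]; exact D.swap.isPrime_span_y hr hπ hπr, fun a ha => ?_⟩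
        simp only [Fin.zero_eta] at ha ⊢
        rw [← ox_X R r hr1] at ha
        have he := (D.swap.mem_span_y_iff hr hπr _).1 ha
        obtain ⟨p, q, rfl⟩ := exists_poly_form r a
        have hp0 : π ∣ p.coeff 0 := by
          have h := he 0
          rwa [← D.swap.e_natCast, D.swap_e, Nat.cast_zero, neg_zero, ← Nat.cast_zero, D.e_natCast, (hιnf p q).1,
            Polynomial.coeff_coe] at h
        have hq : ∀ n, π ∣ q.coeff n := fun n => by
          have h := he (n + 1)
          rwa [← D.swap.e_natCast, D.swap_e, show (-((n + 1 : ℕ) : ℤ)) = Int.negSucc n from rfl, D.e_negSucc,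
            (hιnf p q).2, Polynomial.coeff_coe] at h
        conv => arg 2; rw [← p.X_mul_divX_add, map_add (pVar r 0), map_mul (pVar r 0), map_mul (pVar r 1)]
        refine add_mem (add_mem (Ideal.mul_mem_right _ _ (Ideal.subset_span (Or.inr ?_))) ?_) (Ideal.mul_mem_left _ _ ?_)
        · simp [pVar]
        · obtain ⟨w, hw⟩ := hp0
          rw [hw, pVar, Polynomial.aeval_C, map_mul]
          exact Ideal.mul_mem_right _ _ (Ideal.subset_span (Or.inl rfl))
        · obtain ⟨w, hw⟩ := hdvd π q 1 hq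
          rw [hw]
          exact Ideal.mul_mem_right _ _ (Ideal.subset_span (Or.inl rfl))
      · refine ⟨by rw [Fin.mk_one, ← oy_X R r hr1]; exact D.isPrime_span_y hr hπ hπr, fun a ha => ?_⟩
        simp only [Fin.mk_one] at ha ⊢
        rw [← oy_X R r hr1] at ha
        have he := (D.mem_span_y_iff hr hπr _).1 ha
        obtain ⟨p, q, rfl⟩ := exists_poly_form r a
        have hp : ∀ n, π ∣ p.coeff n := fun n => by
          have h := he n
          rwa [(hιnf p q).1, Polynomial.coeff_coe] at h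
        rw [map_mul (pVar r 1)]
        refine add_mem ?_ (Ideal.mul_mem_right _ _ (Ideal.subset_span (Or.inr (by simp [pVar]))))
        obtain ⟨w, hw⟩ := hdvd π p 0 hp
        rw [hw]
        exact Ideal.mul_mem_right _ _ (Ideal.subset_span (Or.inl rfl))
  have hcomap : ∀ G ∈ Cand, (IA G).comap φ = IL G := by
    intro G hG
    refine le_antisymm (fun x hx => ?_) (Ideal.map_le_iff_le_comap.2 fun a ha => ?_)
    · obtain ⟨⟨a, s⟩, rfl⟩ := IsLocalization.mk'_surjective P.primeCompl x
      have h0 : φ (IsLocalization.mk' (Localization.AtPrime P) a s) * φ (algebraMap (SpinCurv.PolyNodeRing R r) (Localization.AtPrime P) s) = ι a := by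
        rw [← map_mul, IsLocalization.mk'_spec, hφa]
      have ha := (hprime G hG).2 a (by rw [← h0]; exact Ideal.mul_mem_right _ _ hx)
      exact (IsLocalization.mk'_mem_iff).2 (Ideal.mem_map_of_mem _ ha)
    · show φ (algebraMap (SpinCurv.PolyNodeRing R r) (Localization.AtPrime P) a) ∈ IA G
      rw [hφa]; exact Ideal.mem_map_of_mem ι ha
  have hmapφ : ∀ G, (IL G).map φ = IA G := fun G => by
    simp only [IL, IA, Ideal.map_map, hφ]
  have hA0 : ∀ π : R, π ≠ 0 → algebraMap R (SpinCurv.NodeRing R r) π ≠ 0 := fun π h h' => h (D.algebraMap_injective (h'.trans (map_zero _).symm))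
  have hL0 : ∀ π : R, π ≠ 0 → algebraMap R (Localization.AtPrime P) π ≠ 0 := fun π h h' => hA0 π h (by rw [← hφR, h', map_zero])
  have hπmem : ∀ G ∈ Cand, ∃ π, Prime π ∧ algebraMap R (SpinCurv.NodeRing R r) π ∈ IA G ∧ algebraMap R (Localization.AtPrime P) π ∈ IL G := by
    rintro G ⟨π, hπ, h⟩
    have : algebraMap R (SpinCurv.PolyNodeRing R r) π ∈ G := by
      rcases h with ⟨-, rfl⟩ | ⟨-, i, rfl⟩
      · rfl
      · exact Or.inl rfl
    refine ⟨π, hπ, ?_, ?_⟩
    · rw [← hιa]; exact Ideal.mem_map_of_mem _ (Ideal.subset_span this)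
    · rw [IsScalarTower.algebraMap_apply R (SpinCurv.PolyNodeRing R r) (Localization.AtPrime P)]; exact Ideal.mem_map_of_mem _ (Ideal.subset_span this)
  -- classification in a ring receiving `(SpinCurv.PolyNodeRing R r)`
  have classify : ∀ (B : Type u) [CommRing B] (g : (SpinCurv.PolyNodeRing R r) →+* B) (Q : Ideal B), Q.IsPrime → ∀ π : R, Prime π →
      g (algebraMap R (SpinCurv.PolyNodeRing R r) π) ∈ Q → ∃ G ∈ Cand, (Ideal.span G).map g ≤ Q ∧ algebraMap R (SpinCurv.PolyNodeRing R r) π ∈ G := by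
    intro B _ g Q hQ π hπ hπQ
    by_cases hπr : π ∣ r
    · have : g (Ideal.Quotient.mk _ (MvPolynomial.X 0)) * g (Ideal.Quotient.mk _ (MvPolynomial.X 1)) ∈ Q := by
        rw [← map_mul, poly_mul_xy r]
        obtain ⟨w, hw⟩ := hπr
        rw [congrArg (fun t => algebraMap R (SpinCurv.PolyNodeRing R r) t) hw, map_mul, map_mul]
        exact Q.mul_mem_right _ hπQ
      rcases hQ.mem_or_mem this with h | h
      · refine ⟨_, ⟨π, hπ, Or.inr ⟨hπr, 0, rfl⟩⟩, ?_, Or.inl rfl⟩
        rw [Ideal.map_span, Set.image_pair, Ideal.span_le, Set.insert_subset_iff, Set.singleton_subset_iff]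
        exact ⟨hπQ, h⟩
      · refine ⟨_, ⟨π, hπ, Or.inr ⟨hπr, 1, rfl⟩⟩, ?_, Or.inl rfl⟩
        rw [Ideal.map_span, Set.image_pair, Ideal.span_le, Set.insert_subset_iff, Set.singleton_subset_iff]
        exact ⟨hπQ, h⟩
    · refine ⟨_, ⟨π, hπ, Or.inl ⟨hπr, rfl⟩⟩, ?_, rfl⟩
      rw [Ideal.map_span, Set.image_singleton, Ideal.span_singleton_le_iff_mem]
      exact hπQ
  have hILprime : ∀ G ∈ Cand, (IL G).IsPrime := fun G hG => by
    rw [← hcomap G hG]
    exact Ideal.IsPrime.comap φ (hK := (hprime G hG).1)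
  have classifyL : ∀ 𝔮 : Ideal (Localization.AtPrime P), 𝔮.IsPrime → @Ideal.height (Localization.AtPrime P) _ 𝔮 = 1 → Ideal.comap (algebraMap R (Localization.AtPrime P)) 𝔮 ≠ ⊥ →
      ∃ G ∈ Cand, 𝔮 = IL G := by
    intro 𝔮 h𝔮 hht hne
    obtain ⟨π, hπmem', hπ⟩ := (Ideal.IsPrime.comap (algebraMap R (Localization.AtPrime P)) (hK := h𝔮)).exists_mem_prime_of_ne_bot hne
    obtain ⟨G, hG, hle, hGπ⟩ := classify (Localization.AtPrime P) (algebraMap (SpinCurv.PolyNodeRing R r) (Localization.AtPrime P)) 𝔮 h𝔮 π hπ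
      (by rw [← IsScalarTower.algebraMap_apply]; exact hπmem')
    refine ⟨G, hG, ?_⟩
    by_contra hne'
    haveI := h𝔮
    haveI := hILprime G hG
    have hbot : (⊥ : Ideal (Localization.AtPrime P)) < IL G := bot_lt_iff_ne_bot.2 fun h => hL0 π hπ.ne_zero (by
      have h' := Ideal.mem_map_of_mem (algebraMap (SpinCurv.PolyNodeRing R r) (Localization.AtPrime P)) (Ideal.subset_span hGπ : _ ∈ Ideal.span G)
      rw [← IsScalarTower.algebraMap_apply, show (Ideal.span G).map (algebraMap (SpinCurv.PolyNodeRing R r) (Localization.AtPrime P)) = ⊥ from h] at h'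
      exact h')
    have h1 := Ideal.height_add_one_le_of_lt_of_isPrime (lt_of_le_of_ne hle (Ne.symm hne'))
    rw [hht] at h1
    exact absurd ((add_le_add (Order.one_le_iff_ne_zero.2 fun h => hbot.ne' (Ideal.height_eq_zero_iff_eq_bot.1 h)) le_rfl).trans h1) (by norm_num)
  have classifyA : ∀ 𝔓 : Ideal (SpinCurv.NodeRing R r), 𝔓.IsPrime → 𝔓.height = 1 → Ideal.comap (algebraMap R (SpinCurv.NodeRing R r)) 𝔓 ≠ ⊥ →
      ∃ G ∈ Cand, 𝔓 = IA G := by
    intro 𝔓 h𝔓 hht hne
    obtain ⟨π, hπmem', hπ⟩ := (Ideal.IsPrime.comap (algebraMap R (SpinCurv.NodeRing R r)) (hK := h𝔓)).exists_mem_prime_of_ne_bot hne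
    obtain ⟨G, hG, hle, hGπ⟩ := classify (SpinCurv.NodeRing R r) ι 𝔓 h𝔓 π hπ (by rw [hιa]; exact hπmem')
    refine ⟨G, hG, ?_⟩
    by_contra hne'
    haveI := h𝔓
    haveI := (hprime G hG).1
    have hbot : (⊥ : Ideal (SpinCurv.NodeRing R r)) < IA G := bot_lt_iff_ne_bot.2 fun h => hA0 π hπ.ne_zero (by
      have h' := Ideal.mem_map_of_mem ι (Ideal.subset_span hGπ : _ ∈ Ideal.span G)
      rw [hιa, show (Ideal.span G).map ι = ⊥ from h] at h'
      exact h')
    have h1 := Ideal.height_add_one_le_of_lt_of_isPrime (lt_of_le_of_ne hle (Ne.symm hne'))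
    rw [hht] at h1
    exact absurd ((add_le_add (Order.one_le_iff_ne_zero.2 fun h => hbot.ne' (Ideal.height_eq_zero_iff_eq_bot.1 h)) le_rfl).trans h1) (by norm_num)
  -- heights
  have hmin : ∀ G ∈ Cand, ∃ π : R, Prime π ∧ algebraMap R (SpinCurv.NodeRing R r) π ∈ IA G ∧ algebraMap R (Localization.AtPrime P) π ∈ IL G ∧
      IA G ∈ (Ideal.span {algebraMap R (SpinCurv.NodeRing R r) π}).minimalPrimes ∧ IL G ∈ (Ideal.span {algebraMap R (Localization.AtPrime P) π}).minimalPrimes := by
    intro G hG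
    obtain ⟨π, hπ, h1, h2⟩ := hπmem G hG
    have hincl : ∀ G' ∈ Cand, algebraMap R (SpinCurv.PolyNodeRing R r) π ∈ G' → IA G' ≤ IA G → IA G' = IA G := by
      rintro G' ⟨π', hπ', hG'⟩ hmem hle
      obtain ⟨π'', hπ'', hG''⟩ := hG
      have hdet : ∀ a b : R, Prime a → algebraMap R (SpinCurv.NodeRing R r) b ∈ IA {algebraMap R (SpinCurv.PolyNodeRing R r) a} → a ∣ b := fun a b ha h => by
        have h' : algebraMap R (SpinCurv.NodeRing R r) b ∈ (Ideal.span {a}).map (algebraMap R (SpinCurv.NodeRing R r)) := by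
          simpa [IA, Ideal.map_span, hιa] using h
        simpa [D.e_algebraMap, Ideal.mem_span_singleton] using D.e_mem_of_mem_map h' 0
      have hdet2 : ∀ (a b : R) (i : Fin 2), a ∣ r →
          algebraMap R (SpinCurv.NodeRing R r) b ∈ IA {algebraMap R (SpinCurv.PolyNodeRing R r) a, Ideal.Quotient.mk _ (MvPolynomial.X i)} → a ∣ b := fun a b i ha h => by
        simp only [IA, Ideal.map_span, Set.image_pair, hιa, hιX] at h
        fin_cases i
        · simp only [Fin.zero_eta, ← ox_X R r hr1] at h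
          have := (D.swap.mem_span_y_iff hr ha _).1 h 0
          rwa [← D.swap.e_natCast, D.swap.e_algebraMap, if_pos (by simp)] at this
        · simp only [Fin.mk_one, ← oy_X R r hr1] at h
          have := (D.mem_span_y_iff hr ha _).1 h 0
          rwa [← D.e_natCast, D.e_algebraMap, if_pos (by simp)] at this
      have hass : Associated π'' π' := by
        have hmem' : algebraMap R (SpinCurv.NodeRing R r) π' ∈ IA G := hle (by
          rw [← hιa]
          refine Ideal.mem_map_of_mem _ (Ideal.subset_span ?_)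
          rcases hG' with ⟨-, rfl⟩ | ⟨-, j, rfl⟩
          · rfl
          · exact Or.inl rfl)
        rcases hG'' with ⟨-, rfl⟩ | ⟨h'', i, rfl⟩
        · exact hπ''.associated_of_dvd hπ' (hdet _ _ hπ'' hmem')
        · exact hπ''.associated_of_dvd hπ' (hdet2 _ _ i h'' hmem')
      obtain ⟨w, hw⟩ := hass
      rcases hG' with ⟨hn', rfl⟩ | ⟨hd', j, rfl⟩ <;> rcases hG'' with ⟨hn'', rfl⟩ | ⟨hd'', i, rfl⟩
      · simp only [IA, Ideal.map_span, Set.image_singleton, ← hw, map_mul]
        exact Ideal.span_singleton_mul_right_unit (((w.isUnit).map _).map ι) _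
      · exact absurd ((Associated.dvd_iff_dvd_left ⟨w, hw⟩).1 hd'') hn'
      · exact absurd ((Associated.dvd_iff_dvd_left ⟨w, hw⟩).2 hd') hn''
      · rcases eq_or_ne i j with rfl | hij
        · simp only [IA, Ideal.map_span, Set.image_pair, ← hw, map_mul]
          rw [Ideal.span_insert, Ideal.span_insert, Ideal.span_singleton_mul_right_unit (((w.isUnit).map _).map ι)]
        · exfalso
          have hX : ι (Ideal.Quotient.mk _ (MvPolynomial.X j)) ∈ IA {algebraMap R (SpinCurv.PolyNodeRing R r) π'', Ideal.Quotient.mk _ (MvPolynomial.X i)} :=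
            hle (Ideal.mem_map_of_mem _ (Ideal.subset_span (Or.inr rfl)))
          simp only [IA, Ideal.map_span, Set.image_pair, hιa, hιX] at hX
          fin_cases i <;> fin_cases j <;> simp at hij
          · simp only [Fin.zero_eta, Fin.mk_one, ← ox_X R r hr1, ← oy_X R r hr1] at hX
            have := (D.swap.mem_span_y_iff hr hd'' _).1 hX 1
            rw [show D.oy PowerSeries.X = D.swap.ox PowerSeries.X from rfl, (D.swap.nf_ox _).1, coeff_one_X] at this
            exact hπ''.not_isUnit (isUnit_of_dvd_one this)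
          · simp only [Fin.zero_eta, Fin.mk_one, ← ox_X R r hr1, ← oy_X R r hr1] at hX
            have := (D.mem_span_y_iff hr hd'' _).1 hX 1
            rw [(D.nf_ox _).1, coeff_one_X] at this
            exact hπ''.not_isUnit (isUnit_of_dvd_one this)
    refine ⟨π, hπ, h1, h2, ⟨⟨(hprime G hG).1, by rwa [Ideal.span_singleton_le_iff_mem]⟩, fun Q hQ hQle => ?_⟩,
      ⟨⟨hILprime G hG, by rwa [Ideal.span_singleton_le_iff_mem]⟩, fun Q hQ hQle => ?_⟩⟩
    · obtain ⟨G', hG', hle, hm⟩ := classify (SpinCurv.NodeRing R r) ι Q hQ.1 π hπ (by rw [hιa]; exact hQ.2 (Ideal.mem_span_singleton_self _))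
      rw [← hincl G' hG' hm (hle.trans hQle)]; exact hle
    · obtain ⟨G', hG', hle, hm⟩ := classify (Localization.AtPrime P) (algebraMap (SpinCurv.PolyNodeRing R r) (Localization.AtPrime P)) Q hQ.1 π hπ
        (by rw [← IsScalarTower.algebraMap_apply]; exact hQ.2 (Ideal.mem_span_singleton_self _))
      have := hincl G' hG' hm (by rw [← hmapφ G', ← hmapφ G]; exact Ideal.map_mono (hle.trans hQle))
      rw [← hcomap G hG, ← this, hcomap G' hG']; exact hle
  have hht : ∀ G ∈ Cand, (IA G).height = 1 ∧ @Ideal.height (Localization.AtPrime P) _ (IL G) = 1 := by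
    intro G hG
    obtain ⟨π, hπ, h1, h2, hA, hL⟩ := hmin G hG
    haveI := (hprime G hG).1
    haveI := hILprime G hG
    refine ⟨le_antisymm (Ideal.height_le_one_of_isPrincipal_of_mem_minimalPrimes _ _ hA) ?_,
      le_antisymm (Ideal.height_le_one_of_isPrincipal_of_mem_minimalPrimes _ _ hL) ?_⟩
    all_goals rw [Order.one_le_iff_ne_zero, Ne, Ideal.height_eq_zero_iff_eq_bot]
    · exact fun h => hA0 π hπ.ne_zero (by rw [h] at h1; exact h1)
    · exact fun h => hL0 π hπ.ne_zero (by rw [h] at h2; exact h2)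
  refine ⟨?_, ?_, ?_⟩
  · rintro 𝔓 ⟨h𝔓, hht', hne⟩
    obtain ⟨G, hG, rfl⟩ := classifyA 𝔓 h𝔓 hht' hne
    obtain ⟨π, hπ, -, h2⟩ := hπmem G hG
    simp only [Set.mem_setOf_eq]
    simp only [hcomap G hG]
    exact ⟨hILprime G hG, (hht G hG).2, fun h => hπ.ne_zero (by
      have : π ∈ Ideal.comap (algebraMap R (Localization.AtPrime P)) (IL G) := h2
      rwa [h] at this)⟩
  · rintro 𝔓 ⟨h1, h2, h3⟩ 𝔓' ⟨h1', h2', h3'⟩ heq
    obtain ⟨G, hG, rfl⟩ := classifyA 𝔓 h1 h2 h3
    obtain ⟨G', hG', rfl⟩ := classifyA 𝔓' h1' h2' h3'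
    simp only [hcomap G hG, hcomap G' hG'] at heq
    rw [← hmapφ, heq, hmapφ]
  · rintro 𝔮 ⟨h𝔮, hht', hne⟩
    obtain ⟨G, hG, rfl⟩ := classifyL 𝔮 h𝔮 hht' hne
    obtain ⟨π, hπ, h1, -⟩ := hπmem G hG
    exact ⟨IA G, ⟨(hprime G hG).1, (hht G hG).1, fun h => hπ.ne_zero (by
      have : π ∈ Ideal.comap (algebraMap R (SpinCurv.NodeRing R r)) (IA G) := h1
      rwa [h] at this)⟩, hcomap G hG⟩

end Groth.Agent.NodeVal3
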