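import Groth.Agent.Lib.NodeVal3.Main
import Groth.Agent.Lib.NodeNF29.Basic
import Mathlib.RingTheory.RegularLocalRing.Defs
import Mathlib.RingTheory.MvPowerSeries.Inverse

/-! # The node ring as a `NodeData` -/

set_option autoImplicit false
set_option linter.style.haveILetI false
universe u

open IsLocalRing

noncomputable section

namespace Groth.Agent.NodeVal3

variable (R : Type u) [CommRing R] (r : R)

abbrev NR : Type u := SpinCurv.NodeRing R r

/-- One variable series in the `i`-th variable. -/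
def inVar (i : Fin 2) : PowerSeries R →ₐ[R] SpinCurv.NodeRing R r :=
  (Ideal.Quotient.mkₐ R _).comp (PowerSeries.toMvPowerSeries (σ := Fin 2) i)

variable [IsLocalRing R] [IsAdicComplete (maximalIdeal R) R]

def nodeData (hr : r ∈ maximalIdeal R) : NodeData R (SpinCurv.NodeRing R r) r where
  ox := inVar R r 0
  oy := inVar R r 1
  mul_xy := by
    show Ideal.Quotient.mk _ (PowerSeries.toMvPowerSeries (σ := Fin 2) 0 PowerSeries.X) *
      Ideal.Quotient.mk _ (PowerSeries.toMvPowerSeries (σ := Fin 2) 1 PowerSeries.X) = Ideal.Quotient.mk _ (MvPowerSeries.C r)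
    rw [PowerSeries.toMvPowerSeries_X, PowerSeries.toMvPowerSeries_X, ← map_mul, Ideal.Quotient.eq]
    exact Ideal.mem_span_singleton_self _
  ex f := by
    obtain ⟨p, q, h⟩ := NodeNF29.exists_normalForm hr f
    refine ⟨p, q, h.trans ?_⟩
    show _ = Ideal.Quotient.mk _ (PowerSeries.toMvPowerSeries (σ := Fin 2) 0 p) +
      Ideal.Quotient.mk _ (PowerSeries.toMvPowerSeries (σ := Fin 2) 1 (PowerSeries.X * q))
    rw [map_mul, PowerSeries.toMvPowerSeries_X, map_mul]
  uniq p q h := by
    refine NodeNF29.normalForm_eq_zero hr ?_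
    rw [← h]
    show _ = Ideal.Quotient.mk _ (PowerSeries.toMvPowerSeries (σ := Fin 2) 0 p) +
      Ideal.Quotient.mk _ (PowerSeries.toMvPowerSeries (σ := Fin 2) 1 (PowerSeries.X * q))
    rw [map_mul (PowerSeries.toMvPowerSeries (σ := Fin 2) 1), PowerSeries.toMvPowerSeries_X, map_mul]
  unit p q hp := by
    have h : IsUnit (PowerSeries.toMvPowerSeries (σ := Fin 2) 0 p +
        PowerSeries.toMvPowerSeries (σ := Fin 2) 1 (PowerSeries.X * q)) := by
      rw [MvPowerSeries.isUnit_iff_constantCoeff, map_add, map_mul, PowerSeries.toMvPowerSeries_X, map_mul,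
        MvPowerSeries.constantCoeff_X, zero_mul, add_zero]
      convert hp
      rw [← MvPowerSeries.coeff_zero_eq_constantCoeff_apply,
        show (0 : Fin 2 →₀ ℕ) = NodeNF29.ex 0 0 by ext i; fin_cases i <;> simp,
        NodeNF29.coeff_toMv 0 1 (by decide)]
      simp [PowerSeries.coeff_zero_eq_constantCoeff_apply]
    exact h.map (Ideal.Quotient.mkₐ R _)

theorem ox_X (hr : r ∈ maximalIdeal R) :
    (nodeData R r hr).ox PowerSeries.X = Ideal.Quotient.mk _ (MvPowerSeries.X 0) := by
  show Ideal.Quotient.mk _ (PowerSeries.toMvPowerSeries (σ := Fin 2) 0 PowerSeries.X) = _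
  rw [PowerSeries.toMvPowerSeries_X]

theorem oy_X (hr : r ∈ maximalIdeal R) :
    (nodeData R r hr).oy PowerSeries.X = Ideal.Quotient.mk _ (MvPowerSeries.X 1) := by
  show Ideal.Quotient.mk _ (PowerSeries.toMvPowerSeries (σ := Fin 2) 1 PowerSeries.X) = _
  rw [PowerSeries.toMvPowerSeries_X]

omit [IsLocalRing R] [IsAdicComplete (maximalIdeal R) R] in
/-- A valuation with support `(π)` which is positive on `r`. -/
theorem exists_valuation [IsNoetherianRing R] [IsLocalRing R] (π : R) (hπ : Prime π) (hr : r ∈ maximalIdeal R) (hπr : ¬ π ∣ r) :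
    ∃ v : AddValuation R ℕ∞, 1 ≤ v r ∧ v r ≠ ⊤ ∧ ∀ x, v x = ⊤ ↔ π ∣ x := by
  haveI : (Ideal.span {π}).IsPrime := (Ideal.span_singleton_prime hπ.ne_zero).2 hπ
  have hle : Ideal.span {π} ≤ maximalIdeal R :=
    IsLocalRing.le_maximalIdeal (Ideal.IsPrime.ne_top inferInstance)
  have hne : Ideal.span {π} ≠ maximalIdeal R := fun h => hπr (Ideal.mem_span_singleton.1 (h ▸ hr))
  obtain ⟨V, _, _, _, _, θ, hker, hm⟩ := SN26.exists_complete_dvr hle hne
  have htop : ∀ x, IsDiscreteValuationRing.addVal V (θ x) = ⊤ ↔ π ∣ x := fun x => by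
    rw [IsDiscreteValuationRing.addVal_eq_top_iff, ← RingHom.mem_ker, hker, Ideal.mem_span_singleton]
  refine ⟨(IsDiscreteValuationRing.addVal V).comap θ, ?_, fun h => hπr ((htop r).1 h), htop⟩
  obtain ⟨ϖ, hϖ⟩ := IsDiscreteValuationRing.exists_irreducible V
  show 1 ≤ IsDiscreteValuationRing.addVal V (θ r)
  rw [← IsDiscreteValuationRing.addVal_uniformizer hϖ, IsDiscreteValuationRing.addVal_le_iff_dvd]
  have : θ r ∈ maximalIdeal V := by rw [← Ideal.mem_comap, hm]; exact hr
  rwa [hϖ.maximalIdeal_eq, Ideal.mem_span_singleton] at this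

theorem strip [IsNoetherianRing R] (hr : r ∈ maximalIdeal R) (π : R) (hπ : Prime π) (hπr : ¬ π ∣ r)
    (a b : SpinCurv.NodeRing R r) (h : algebraMap R _ π ∣ a * b) : algebraMap R _ π ∣ a ∨ algebraMap R _ π ∣ b := by
  obtain ⟨v, h1, h2, h3⟩ := exists_valuation R r π hπ hr hπr
  exact (nodeData R r hr).dvd_or_dvd v h1 h2 h3 h

theorem main [IsRegularLocalRing R] (hr0 : r ≠ 0) (a : SpinCurv.NodeRing R r)
    (ha : IsUnit (a ⊗ₜ[R] (1 : FractionRing R) : TensorProduct R (SpinCurv.NodeRing R r) (FractionRing R))) :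
    ∃ (s : R) (m n : ℕ) (u : (SpinCurv.NodeRing R r)ˣ),
      m * n = 0 ∧ a = Ideal.Quotient.mk _ (MvPowerSeries.C s * MvPowerSeries.X 0 ^ n * MvPowerSeries.X 1 ^ m) * (u : SpinCurv.NodeRing R r) := by
  haveI : IsDomain R := RegLoc.isDomain R
  haveI : UniqueFactorizationMonoid R := RegLoc.ufd_of_isRegularLocalRing R
  by_cases hr : r ∈ maximalIdeal R
  · let D := nodeData R r hr
    let N := SpinCurv.NodeRing R r
    let K := FractionRing R
    haveI : IsLocalizedModule (nonZeroDivisors R) (TensorProduct.mk R K N 1) :=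
      (isLocalizedModule_iff_isBaseChange (nonZeroDivisors R) K _).2 (TensorProduct.isBaseChange R N K)
    obtain ⟨w, hw⟩ := ha.exists_right_inv
    replace hw := congrArg (Algebra.TensorProduct.comm R N K) hw
    rw [map_mul, Algebra.TensorProduct.comm_tmul, map_one] at hw
    obtain ⟨⟨b, t⟩, hbt⟩ := IsLocalizedModule.surj (nonZeroDivisors R) (TensorProduct.mk R K N 1)
      (Algebra.TensorProduct.comm R N K w)
    have hab' : (TensorProduct.mk R K N 1) (a * b) = (TensorProduct.mk R K N 1) (algebraMap R N t) := by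
      show ((1 : K) ⊗ₜ[R] (a * b)) = 1 ⊗ₜ[R] algebraMap R N t
      rw [show ((1 : K) ⊗ₜ[R] (a * b)) = (1 : K) ⊗ₜ[R] a * (1 : K) ⊗ₜ[R] b by
        rw [Algebra.TensorProduct.tmul_mul_tmul, one_mul],
        show ((1 : K) ⊗ₜ[R] b) = (t : R) • Algebra.TensorProduct.comm R N K w from hbt.symm, mul_smul_comm, hw,
        Algebra.TensorProduct.one_def, ← TensorProduct.tmul_smul, Algebra.algebraMap_eq_smul_one]
    obtain ⟨c, hc⟩ := IsLocalizedModule.exists_of_eq (S := nonZeroDivisors R) hab'
    simp only [Submonoid.smul_def] at hc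
    have hab : a * b = algebraMap R N t := D.algebraMap_mul_cancel (nonZeroDivisors.ne_zero c.2) (((Algebra.smul_def _ _).symm.trans hc).trans (Algebra.smul_def _ _))
    obtain ⟨s, m, n, u, hmn, hu⟩ := exists_monomial_form D hr0 hr (strip R r hr) t (nonZeroDivisors.ne_zero t.2) a b hab
    refine ⟨s, m, n, u, hmn, hu.trans ?_⟩
    rw [ox_X R r hr, oy_X R r hr, map_mul, map_mul, map_pow, map_pow]
    rfl
  · haveI : Subsingleton (SpinCurv.NodeRing R r) := by
      refine Ideal.Quotient.subsingleton_iff.2 (Ideal.eq_top_of_isUnit_mem _ (Ideal.mem_span_singleton_self _) ?_)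
      rw [MvPowerSeries.isUnit_iff_constantCoeff, map_sub, map_mul, MvPowerSeries.constantCoeff_X, zero_mul, zero_sub,
        MvPowerSeries.constantCoeff_C, IsUnit.neg_iff]
      simpa [IsLocalRing.mem_maximalIdeal] using hr
    exact ⟨1, 0, 0, 1, rfl, Subsingleton.elim _ _⟩

end Groth.Agent.NodeVal3
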