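import Groth.Agent.Lib.NodeVal3.Core
import Groth.Agent.Lib.NodeNF29.Basic
import Groth.Agent.Lib.Seminormal26.CompleteDVR
import Groth.Agent.Lib.RegLoc.UFD
import Mathlib.RingTheory.Valuation.PrimeMultiplicity
import Mathlib.RingTheory.UniqueFactorizationDomain.Multiplicity
import Mathlib.RingTheory.DiscreteValuationRing.Basic

/-! # Divisors of constants in `R[[x,y]]/(xy - r)` -/

set_option autoImplicit false
set_option linter.style.haveILetI false
universe u

open PowerSeries

noncomputable section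

namespace Groth.Agent.NodeVal3

namespace NodeData

variable {R A : Type u} [CommRing R] [CommRing A] [Algebra R A] {r : R} (D : NodeData R A r)

theorem c_smul (s : R) (f : A) (n : ℤ) : D.c (algebraMap R A s * f) n = s * D.c f n := by
  rw [c, c, D.e_smul]; ring

theorem c_xpow_mul (M : ℕ) (f : A) (n : ℤ) : D.c (D.ox X ^ M * f) n = D.c f (n - M) := by
  rw [D.xpow_mul]
  have hq := D.nf_smul (r ^ M) (D.oy (X * PowerSeries.mk fun m => coeff (M + m) (D.qr f)))
  have hu := D.nf_unique (f := D.oy (X * PowerSeries.mk fun m => coeff (M + m) (D.qr f))) (p := 0)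
    (by rw [map_zero, zero_add])
  cases n with
  | ofNat n =>
    show D.c _ (n : ℤ) = _
    rw [c_natCast, (D.nf_add _ _).1, hq.1, hu.1, mul_zero, add_zero, (D.nf_ox _).1, PowerSeries.coeff_mk]
    rfl
  | negSucc i =>
    rw [c, c, e_negSucc, (D.nf_add _ _).2, (D.nf_ox _).2, zero_add, hq.2, hu.2, coeff_C_mul, PowerSeries.coeff_mk,
      show Int.negSucc i - (M : ℤ) = Int.negSucc (i + M) by omega, e_negSucc, ← mul_assoc, ← pow_add, Nat.add_comm i M]
    congr 2
    omega

theorem dvd_of_e {a : R} {f : A} (h : ∀ n, a ∣ D.e f n) : algebraMap R A a ∣ f := by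
  choose w hw using h
  refine ⟨D.ox (PowerSeries.mk fun j => w (j : ℤ)) + D.oy (X * PowerSeries.mk fun i => w (Int.negSucc i)), ?_⟩
  conv_lhs => rw [D.nf f]
  have h1 : D.pr f = C a * PowerSeries.mk fun j => w (j : ℤ) := PowerSeries.ext fun j => by
    rw [coeff_C_mul, PowerSeries.coeff_mk, ← hw, e_natCast]
  have h2 : D.qr f = C a * PowerSeries.mk fun i => w (Int.negSucc i) := PowerSeries.ext fun i => by
    rw [coeff_C_mul, PowerSeries.coeff_mk, ← hw, e_negSucc]
  rw [h1, h2, map_mul D.ox, mul_left_comm X, map_mul D.oy (C a), D.ox_C, D.oy_C, mul_add]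

include D in
theorem algebraMap_mul_cancel [IsDomain R] {a : R} (ha : a ≠ 0) {f g : A}
    (h : algebraMap R A a * f = algebraMap R A a * g) : f = g := by
  rw [← sub_eq_zero]
  refine D.eq_zero_of_e fun n => mul_left_cancel₀ ha ?_
  rw [← D.e_smul, mul_sub, h, sub_self, D.e_zero, mul_zero]

include D in
theorem algebraMap_injective : Function.Injective (algebraMap R A) := fun a b h => by
  simpa [D.e_algebraMap] using congrArg (fun f => D.e f 0) h

theorem c_injective [IsDomain R] (hr : r ≠ 0) {f g : A} (h : ∀ n, D.c f n = D.c g n) : f = g := by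
  rw [← sub_eq_zero]
  refine D.eq_zero_of_e fun n => ?_
  have h1 := mul_left_cancel₀ (pow_ne_zero _ hr) (h n)
  have h2 := D.e_add (f - g) g n
  rw [sub_add_cancel, h1] at h2
  exact (right_eq_add.1 h2)

theorem e_zero_mem_span (L : ℕ) (f : A) : D.e (D.ox X ^ L * f) 0 ∈ Ideal.span {r ^ L} := by
  have h := D.c_xpow_mul L f 0
  simp only [c, neg_zero, Int.toNat_zero, pow_zero, one_mul, zero_sub, neg_neg, Int.toNat_natCast] at h
  rw [h]
  exact Ideal.mul_mem_right _ _ (Ideal.mem_span_singleton_self _)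

/-- The degree zero coefficient of a product, up to a power of `r`. -/
theorem e_mul_sub_mem (L : ℕ) (a b : A) :
    D.e (a * b) 0 - ((∑ n ∈ Finset.range L, D.e a (n : ℤ) * (r ^ n * D.e b (-(n : ℤ)))) +
      ∑ m ∈ Finset.range L, D.e a (Int.negSucc m) * (r ^ (m + 1) * D.e b ((m : ℤ) + 1))) ∈ Ideal.span {r ^ L} := by
  let ε : A →ₗ[R] R :=
    { toFun := fun f => D.e f 0
      map_add' := fun f g => D.e_add f g 0
      map_smul' := fun s f => by rw [Algebra.smul_def, D.e_smul]; rfl }
  have hε : ∀ (n : ℕ) (f : A), ε (D.ox X ^ n * f) = r ^ n * D.e f (-(n : ℤ)) := fun n f => by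
    have h := D.c_xpow_mul n f 0
    simpa [c, ε] using h
  have hε' : ∀ (n : ℕ) (f : A), ε (D.oy X ^ n * f) = r ^ n * D.e f (n : ℤ) := fun n f => by
    have h := D.swap.c_xpow_mul n f 0
    simp only [c, D.swap_e] at h
    simpa [ε, swap] using h
  have hp := eq_shift_mul_X_pow_add_trunc L (D.pr a)
  have hq := eq_shift_mul_X_pow_add_trunc L (D.qr a)
  have hpoly : ∀ (φ : PowerSeries R →ₐ[R] A) (P : PowerSeries R), φ ↑(trunc L P) =
      ∑ n ∈ Finset.range L, algebraMap R A (coeff n P) * φ X ^ n := fun φ P => by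
    rw [show ((trunc L P : Polynomial R) : PowerSeries R) = ∑ n ∈ Finset.range L, C (coeff n P) * X ^ n from
      PowerSeries.ext fun j => by
        rw [map_sum, Polynomial.coeff_coe, coeff_trunc]
        simp [coeff_C_mul, coeff_X_pow]]
    rw [map_sum]
    refine Finset.sum_congr rfl fun n _ => ?_
    rw [map_mul, map_pow, ← algebraMap_eq, φ.commutes]
  set α := PowerSeries.mk fun i => coeff (i + L) (D.pr a)
  set β := PowerSeries.mk fun i => coeff (i + L) (D.qr a)
  have ha : a * b = D.ox X ^ L * (D.ox α * b) + D.oy X ^ L * (D.oy X * D.oy β * b) +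
      ((∑ n ∈ Finset.range L, algebraMap R A (coeff n (D.pr a)) * (D.ox X ^ n * b)) +
      ∑ m ∈ Finset.range L, algebraMap R A (coeff m (D.qr a)) * (D.oy X ^ (m + 1) * b)) := by
    conv_lhs => rw [D.nf a, hp, hq]
    simp only [mul_add, map_add, map_mul, map_pow, hpoly, Finset.mul_sum, Finset.sum_mul, add_mul, pow_succ']
    simp only [show ∀ (s y z w : A), z * (s * y) * w = s * (z * y * w) from fun _ _ _ _ => by ring, mul_assoc]
    ring
  show ε (a * b) - _ ∈ _
  rw [ha]
  simp only [map_add, map_sum, ← Algebra.smul_def, map_smul, hε, hε', smul_eq_mul, e_natCast, e_negSucc,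
    Nat.cast_add, Nat.cast_one, add_sub_cancel_right]
  exact add_mem (Ideal.mul_mem_right _ _ (Ideal.mem_span_singleton_self _))
    (Ideal.mul_mem_right _ _ (Ideal.mem_span_singleton_self _))

variable [IsNoetherianRing R]

/-- A prime element whose quotient carries a valuation positive on `r` stays prime. -/
theorem dvd_or_dvd (D : NodeData R A r) {π : R} (v : AddValuation R ℕ∞) (hr : 1 ≤ v r) (hr' : v r ≠ ⊤) (hv : ∀ x, v x = ⊤ ↔ π ∣ x)
    {a b : A} (h : algebraMap R A π ∣ a * b) : algebraMap R A π ∣ a ∨ algebraMap R A π ∣ b := by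
  by_contra hc
  push Not at hc
  have hne : ∀ f : A, ¬ algebraMap R A π ∣ f → ∃ n, v (D.c f n) ≠ ⊤ := fun f hf => by
    by_contra hall
    push Not at hall
    refine hf (D.dvd_of_e fun n => (hv _).1 ?_)
    have := hall n
    rw [c, v.map_mul] at this
    refine ((WithTop.add_eq_top.1 this) : _ ∨ _).resolve_left ?_
    intro hp
    have : ∀ j : ℕ, v (r ^ j) ≠ ⊤ := fun j => by
      induction j with
      | zero => simp
      | succ j ih => rw [pow_succ, v.map_mul]; exact WithTop.add_ne_top.2 ⟨ih, hr'⟩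
    exact this _ hp
  obtain ⟨σ, n, hL, -, -⟩ := D.exists_lead v hr (hne a hc.1)
  obtain ⟨τ, m, hL', -, -⟩ := D.exists_lead v hr (hne b hc.2)
  obtain ⟨g, hg⟩ := h
  have h1 := (hL.mul D v hL').v_c
  rw [hg, D.c_smul, v.map_mul, (hv π).2 dvd_rfl, top_add] at h1
  exact ENat.coe_ne_top _ h1.symm

end NodeData

variable {R A : Type u} [CommRing R] [CommRing A] [Algebra R A] {r : R}

theorem exists_unit_of_center [IsDomain R] (D : NodeData R A r) (hr : r ≠ 0) (a : A) (N : ℕ) (s : R) (hs0 : s ≠ 0)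
    (hs : D.e a (N : ℤ) = s) (H : ∀ n : ℤ, r ^ ((N : ℤ) - n).toNat * s ∣ D.c a n) :
    ∃ u : Aˣ, a = algebraMap R A s * D.ox X ^ N * u := by
  choose w hw using H
  let P := PowerSeries.mk fun j => w ((N : ℤ) + j)
  let Q := PowerSeries.mk fun i => w ((N : ℤ) + Int.negSucc i)
  have h0 : constantCoeff P = 1 := by
    rw [← coeff_zero_eq_constantCoeff_apply, PowerSeries.coeff_mk]
    have := hw N
    rw [D.c_natCast, ← D.e_natCast, hs, sub_self, Int.toNat_zero, pow_zero, one_mul] at this
    simpa using (mul_left_cancel₀ hs0 ((mul_one s).trans this)).symm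
  obtain ⟨u, hu⟩ := D.unit P Q (by rw [h0]; exact isUnit_one)
  refine ⟨u, D.c_injective hr fun n => ?_⟩
  rw [mul_assoc, D.c_smul, D.c_xpow_mul, hu, hw n]
  have hnf := D.nf_unique (f := D.ox P + D.oy (X * Q)) rfl
  obtain ⟨k, rfl⟩ : ∃ k, n = (N : ℤ) + k := ⟨n - N, by ring⟩
  rw [add_sub_cancel_left]
  cases k with
  | ofNat j =>
    show _ = s * D.c _ (j : ℤ)
    rw [D.c_natCast, hnf.1, PowerSeries.coeff_mk, show ((N : ℤ) - (N + Int.ofNat j)).toNat = 0 by simp, pow_zero, one_mul]
    rfl
  | negSucc i =>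
    rw [NodeData.c, D.e_negSucc, hnf.2, PowerSeries.coeff_mk,
      show ((N : ℤ) - (N + Int.negSucc i)).toNat = i + 1 by omega, show (-Int.negSucc i).toNat = i + 1 from rfl]
    ring

theorem exists_monomial_form [IsDomain R] [UniqueFactorizationMonoid R] [IsNoetherianRing R] [IsLocalRing R]
    (D : NodeData R A r) (hr : r ≠ 0) (hrm : r ∈ IsLocalRing.maximalIdeal R)
    (hstrip : ∀ π : R, Prime π → ¬ π ∣ r → ∀ a b : A, algebraMap R A π ∣ a * b →
      algebraMap R A π ∣ a ∨ algebraMap R A π ∣ b) :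
    ∀ (t : R), t ≠ 0 → ∀ a b : A, a * b = algebraMap R A t →
      ∃ (s : R) (m n : ℕ) (u : Aˣ), m * n = 0 ∧ a = algebraMap R A s * D.ox X ^ n * D.oy X ^ m * u := by
  intro t
  induction t using (wellFounded_dvdNotUnit (α := R)).induction with
  | h t IH => ?_
  intro ht a b hab
  -- strip primes not dividing `r`
  by_cases hex : ∃ π, Prime π ∧ π ∣ t ∧ ¬ π ∣ r
  · obtain ⟨π, hπ, ⟨t', rfl⟩, hπr⟩ := hex
    have ht' : t' ≠ 0 := right_ne_zero_of_mul ht
    have hlt : DvdNotUnit t' (π * t') := ⟨ht', π, hπ.not_unit, mul_comm _ _⟩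
    rcases hstrip π hπ hπr a b (by rw [hab, map_mul]; exact Dvd.intro _ rfl) with ⟨a', rfl⟩ | ⟨b', rfl⟩
    · obtain ⟨s, m, n, u, hmn, hu⟩ := IH t' hlt ht' a' b (D.algebraMap_mul_cancel hπ.ne_zero (by
        rw [← mul_assoc, hab, map_mul]))
      exact ⟨π * s, m, n, u, hmn, by rw [hu, map_mul]; ring⟩
    · exact IH t' hlt ht' a b' (D.algebraMap_mul_cancel hπ.ne_zero (by rw [mul_left_comm, hab, map_mul]))
  push Not at hex
  -- all primes of `t` divide `r`
  obtain ⟨K, hK⟩ : ∃ K, t ∣ r ^ K := by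
    clear IH hab
    induction t using UniqueFactorizationMonoid.induction_on_prime with
    | h₁ => exact absurd rfl ht
    | h₂ x hx => exact ⟨0, hx.dvd⟩
    | h₃ x π hx hπ ih =>
      obtain ⟨K, hK⟩ := ih hx fun q hq hqx => hex q hq (hqx.mul_left π)
      exact ⟨K + 1, by rw [pow_succ']; exact mul_dvd_mul (hex π hπ (Dvd.intro _ rfl)) hK⟩
  let m0 := IsLocalRing.maximalIdeal R
  let L := K + 1
  have hrL : t * r ∣ r ^ L := by rw [pow_succ]; exact mul_dvd_mul_right hK r
  have hane : a ≠ 0 := fun h => ht (D.algebraMap_injective (by rw [← hab, h, zero_mul, map_zero]))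
  have hbne : b ≠ 0 := fun h => ht (D.algebraMap_injective (by rw [← hab, h, mul_zero, map_zero]))
  have hv : ∀ (π : R) (hπ : Prime π) (x : R), x ≠ 0 → multiplicity_addValuation hπ x ≠ ⊤ := fun π hπ x hx => by
    rw [multiplicity_addValuation_apply]
    exact finiteMultiplicity_iff_emultiplicity_ne_top.1 (FiniteMultiplicity.of_prime_left hπ hx)
  have hnz : ∀ (π : R) (hπ : Prime π) (f : A), f ≠ 0 → ∃ n, multiplicity_addValuation hπ (D.e f n) ≠ ⊤ := fun π hπ f hf => by
    by_contra hall
    push Not at hall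
    exact hf (D.eq_zero_of_e fun n => by_contra fun h => hv π hπ _ h (hall n))
  have hcen := fun (π : R) (hπ : Prime π) (hπr : π ∣ r) => D.exists_center (multiplicity_addValuation hπ)
    (by rw [multiplicity_addValuation_apply]; exact_mod_cast le_emultiplicity_of_pow_dvd (k := 1) (by simpa using hπr))
    (hv π hπ r hr) hab (hv π hπ t ht) (hnz π hπ b hbne) (hnz π hπ a hane)
  -- the window terms
  let T : ℤ → R := fun n => D.c a n * D.c b (-n)
  have hTv : ∀ (π : R) (hπ : Prime π), π ∣ r → ∀ n, emultiplicity π t ≤ emultiplicity π (T n) := fun π hπ hπr n => by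
    obtain ⟨N, σ, τ, hst, -, -, hge, -, -⟩ := hcen π hπ hπr
    rw [← multiplicity_addValuation_apply (hp := hπ), ← multiplicity_addValuation_apply (hp := hπ), ← hst,
      AddValuation.map_mul, Nat.cast_add]
    exact add_le_add (hge n).1 (hge (-n)).2
  have hTdvd : ∀ n, t ∣ T n := fun n => (UniqueFactorizationMonoid.dvd_iff_emultiplicity_le ht).2 fun π hπ => by
    by_cases hπt : π ∣ t
    · exact hTv π hπ (hex π hπ hπt) n
    · rw [emultiplicity_eq_zero.2 hπt]; exact zero_le
  choose q hq using hTdvd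
  obtain ⟨N, hN⟩ : ∃ N : ℤ, IsUnit (q N) := by
    by_contra hall
    push Not at hall
    have hmem : ∀ n, T n ∈ Ideal.span {t} * m0 := fun n => by
      rw [hq n]; exact Ideal.mul_mem_mul (Ideal.mem_span_singleton_self t) (hall n)
    have hL : Ideal.span {r ^ L} ≤ Ideal.span {t} * m0 := by
      rw [Ideal.span_singleton_le_iff_mem]
      obtain ⟨z, hz⟩ := hrL
      rw [hz, mul_assoc]
      exact Ideal.mul_mem_mul (Ideal.mem_span_singleton_self t) (m0.mul_mem_right _ hrm)
    have h := D.e_mul_sub_mem L a b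
    rw [hab, D.e_algebraMap, if_pos rfl] at h
    have hW1 : ∀ n : ℕ, D.e a (n : ℤ) * (r ^ n * D.e b (-(n : ℤ))) = T n := fun n => by
      show _ = D.c a _ * D.c b _
      simp [NodeData.c]
    have hW2 : ∀ m : ℕ, D.e a (Int.negSucc m) * (r ^ (m + 1) * D.e b ((m : ℤ) + 1)) = T (Int.negSucc m) := fun m => by
      show _ = D.c a _ * D.c b _
      simp only [NodeData.c]
      rw [show (-Int.negSucc m).toNat = m + 1 from rfl, show - -Int.negSucc m = Int.negSucc m from neg_neg _,
        show (Int.negSucc m).toNat = 0 from rfl, show -Int.negSucc m = (m : ℤ) + 1 from rfl]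
      ring
    have h2 : t ∈ Ideal.span {t} * m0 := by
      have := add_mem (hL h) (add_mem (sum_mem fun n (_ : n ∈ Finset.range L) => hW1 n ▸ hmem n)
        (sum_mem fun m (_ : m ∈ Finset.range L) => hW2 m ▸ hmem (Int.negSucc m)))
      rwa [sub_add_cancel] at this
    obtain ⟨z, hz, hzt⟩ := Ideal.mem_span_singleton_mul.1 h2
    exact (IsLocalRing.maximalIdeal.isMaximal R).ne_top
      ((Ideal.eq_top_iff_one _).2 (by rwa [mul_left_cancel₀ ht (hzt.trans (mul_one t).symm)] at hz))
  have hTN : Associated t (T N) := ⟨hN.unit, by rw [IsUnit.unit_spec, ← hq N]⟩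
  let s := D.e a N
  have hs0 : s ≠ 0 := fun h => ht (hTN.eq_zero_iff.2 (by simp [T, NodeData.c, s, h] at *))
  -- all centres coincide with `N`
  have hdiv : ∀ n : ℤ, r ^ ((-N).toNat + (N - n).toNat) * s ∣ D.c a n := fun n => by
    refine (UniqueFactorizationMonoid.dvd_iff_emultiplicity_le (mul_ne_zero (pow_ne_zero _ hr) hs0)).2 fun π hπ => ?_
    by_cases hπr : π ∣ r
    · obtain ⟨N', σ, τ, hst, ha', hb', hge, hltA, hltB⟩ := hcen π hπ hπr
      set v := multiplicity_addValuation hπ
      set e := (v r).toNat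
      have he : v r = (e : ℕ∞) := (ENat.coe_toNat (hv π hπ r hr)).symm
      have he1 : 1 ≤ e := by
        have : (1 : ℕ∞) ≤ v r := by
          rw [multiplicity_addValuation_apply]; exact_mod_cast le_emultiplicity_of_pow_dvd (k := 1) (by simpa using hπr)
        rw [he] at this; exact_mod_cast this
      have hvT : v (T N) = v t := by
        rw [multiplicity_addValuation_apply, multiplicity_addValuation_apply, emultiplicity_eq_of_associated_right hTN.symm]
      have hNN : N' = N := by
        by_contra hne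
        rw [AddValuation.map_mul] at hvT
        rw [← hst, Nat.cast_add] at hvT
        rcases lt_or_gt_of_ne hne with h | h
        · have h1 := add_le_add (hge N).1 (hltB (-N) (by omega))
          rw [hvT, ← Nat.cast_add, ← Nat.cast_add, ← Nat.cast_add, Nat.cast_le] at h1
          have : 0 < (-N' - -N).toNat * e := Nat.mul_pos (by omega) he1
          omega
        · have h1 := add_le_add (hltA N h) (hge (-N)).2
          rw [hvT, ← Nat.cast_add, ← Nat.cast_add, ← Nat.cast_add, Nat.cast_le] at h1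
          have : 0 < (N' - N).toNat * e := Nat.mul_pos (by omega) he1
          omega
      subst hNN
      show emultiplicity π _ ≤ v (D.c a n)
      rw [← multiplicity_addValuation_apply (hp := hπ), pow_add, show r ^ (-N').toNat * r ^ (N' - n).toNat * s =
        r ^ (N' - n).toNat * D.c a N' by simp only [NodeData.c, s]; ring]
      have hp : ∀ j : ℕ, v (r ^ j) = ((j * e : ℕ) : ℕ∞) := fun j => by
        induction j with
        | zero => simp
        | succ j ih => rw [pow_succ, v.map_mul, ih, he, Nat.succ_mul]; push_cast; rfl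
      rw [v.map_mul, hp, ha']
      rcases lt_or_ge n N' with h | h
      · rw [add_comm]; exact hltA n h
      · rw [show (N' - n).toNat = 0 by omega, zero_mul, Nat.cast_zero, zero_add]; exact (hge n).1
    · have : ¬ π ∣ r ^ ((-N).toNat + (N - n).toNat) * s := fun h => by
        rcases hπ.dvd_or_dvd h with h | h
        · exact hπr (hπ.dvd_of_dvd_pow h)
        · exact hπr (hex π hπ ((((h.mul_left _).mul_right _) : π ∣ T N).trans hTN.symm.dvd))
      rw [emultiplicity_eq_zero.2 this]; exact zero_le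
  rcases le_or_gt 0 N with hN0 | hN0
  · obtain ⟨k, rfl⟩ := Int.eq_ofNat_of_zero_le hN0
    obtain ⟨u, hu⟩ := exists_unit_of_center D hr a k s hs0 rfl fun n => by
      simpa using hdiv n
    exact ⟨s, 0, k, u, by simp, by rw [pow_zero, mul_one]; exact hu⟩
  · obtain ⟨k, rfl⟩ : ∃ k : ℕ, N = -(k : ℤ) := ⟨(-N).toNat, by omega⟩
    obtain ⟨u, hu⟩ := exists_unit_of_center D.swap hr a k s hs0 (by rw [D.swap_e]) fun n => by
      obtain ⟨w, hw⟩ := hdiv (-n)
      refine ⟨w, mul_left_cancel₀ (pow_ne_zero (n.toNat) hr) ?_⟩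
      simp only [NodeData.c, D.swap_e] at hw ⊢
      rw [neg_neg] at hw
      rw [mul_left_comm, hw, ← mul_assoc, ← mul_assoc, ← mul_assoc, ← mul_assoc, ← pow_add, ← pow_add]
      congr 3
      omega
    exact ⟨s, k, 0, u, by simp, by rw [pow_zero, mul_one]; exact hu⟩

end Groth.Agent.NodeVal3
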